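import Groth.Agent.FibCat.K159.Equiv

/-!
Cartesian and strongly cartesian morphisms under equivalences over the base; invariance of pre-fibred, fibred and
fibred in groupoids; fibred in groupoids = fibred with groupoid fibres.
-/

set_option autoImplicit false
set_option backward.isDefEq.respectTransparency false
set_option backward.isDefEq.respectTransparency.types false

universe v₄ u₄ v₃ u₃ v₂ u₂ v u

open CategoryTheory CategoryTheory.Functor

namespace K159.Cart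

section General

variable {C : Type u} [Category.{v} C] {X : Type u₂} [Category.{v₂} X] (p : X ⥤ C)

/-- `p` is fibred in groupoids iff it is fibred with groupoid fibres. -/
theorem isFibGrpd_iff :
    FibCat.IsFibGrpd p ↔ (p.IsFibered ∧ ∀ U : C, IsGroupoid (p.Fiber U)) := by
  constructor
  · intro h
    refine ⟨IsFibered.of_exists_isStronglyCartesian (fun a R f => ?_), fun U => ⟨fun {x y} φ => ?_⟩⟩
    · obtain ⟨b, φ, hφ⟩ := h.exists_lift f
      have := h.isStronglyCartesian φ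
      have e := IsHomLift.domain_eq p f φ
      subst e
      have e2 := IsHomLift.eq_of_isHomLift p f φ
      subst e2
      exact ⟨b, φ, this⟩
    · have h1 := h.isStronglyCartesian φ.1
      have h2 : p.IsHomLift (𝟙 U) φ.1 := φ.2
      have h3 : IsIso (p.map φ.1) := by
        rw [IsHomLift.fac' p (𝟙 U) φ.1]; infer_instance
      have h4 : IsIso φ.1 := IsStronglyCartesian.isIso_of_base_isIso p (p.map φ.1) φ.1
      have h5 : p.IsHomLift (𝟙 U) (inv φ.1) := inferInstance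
      exact ⟨⟨inv φ.1, h5⟩, Fiber.hom_ext (IsIso.hom_inv_id φ.1), Fiber.hom_ext (IsIso.inv_hom_id φ.1)⟩
  · rintro ⟨h, hg⟩
    refine ⟨fun {x V} f => ?_, fun {y x} φ => ?_⟩
    · obtain ⟨b, φ, hφ⟩ := IsPreFibered.exists_isCartesian p rfl f
      exact ⟨b, φ, inferInstance⟩
    · obtain ⟨z, ψ, hψ⟩ := IsPreFibered.exists_isCartesian p rfl (p.map φ)
      let χ := IsCartesian.map p (p.map φ) ψ φ
      have hχ : p.IsHomLift (𝟙 (p.obj y)) χ := inferInstance
      let χ' := Fiber.homMk p (p.obj y) χ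
      have : IsIso χ' := (hg (p.obj y)).all_isIso χ'
      have h2 : IsIso χ := (inferInstance : IsIso (Fiber.fiberInclusion.map χ'))
      have h3 : χ ≫ ψ = φ := IsCartesian.fac p (p.map φ) ψ φ
      have h4 : p.IsCartesian (p.map φ) ((asIso χ).hom ≫ ψ) := by
        have : p.IsHomLift (𝟙 (p.obj y)) (asIso χ).hom := hχ
        infer_instance
      rw [asIso_hom, h3] at h4
      infer_instance

theorem IsFibGrpd.isFibered (h : FibCat.IsFibGrpd p) : p.IsFibered := ((isFibGrpd_iff p).1 h).1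

theorem IsFibGrpd.isGroupoid_fiber (h : FibCat.IsFibGrpd p) (U : C) : IsGroupoid (p.Fiber U) :=
  ((isFibGrpd_iff p).1 h).2 U

variable {p}

/-- in a category fibred in groupoids every morphism is strongly cartesian over anything it lifts -/
theorem IsFibGrpd.isStronglyCartesian_of_isHomLift (h : FibCat.IsFibGrpd p) {R S : C} (f : R ⟶ S) {a b : X}
    (φ : a ⟶ b) [hf : p.IsHomLift f φ] : p.IsStronglyCartesian f φ := by
  cases hf
  exact h.isStronglyCartesian φ

/-- a morphism over an isomorphism of a category fibred in groupoids is an isomorphism -/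
theorem IsFibGrpd.isIso (h : FibCat.IsFibGrpd p) {R S : C} (f : R ⟶ S) [IsIso f] {a b : X}
    (φ : a ⟶ b) [hf : p.IsHomLift f φ] : IsIso φ := by
  have := IsFibGrpd.isStronglyCartesian_of_isHomLift h f φ
  exact IsStronglyCartesian.isIso_of_base_isIso p f φ

/-- lifts with a flexible target equation -/
theorem IsFibGrpd.exists_lift' (h : FibCat.IsFibGrpd p) {R S : C} (f : R ⟶ S) {x : X} (hx : p.obj x = S) :
    ∃ (y : X) (φ : y ⟶ x), p.IsHomLift f φ := by
  subst hx; exact h.exists_lift f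

/-- existence of strongly cartesian lifts in a fibred category with flexible target -/
theorem exists_isStronglyCartesian [p.IsFibered] {R S : C} (f : R ⟶ S) {x : X} (hx : p.obj x = S) :
    ∃ (y : X) (φ : y ⟶ x), p.IsStronglyCartesian f φ := by
  obtain ⟨y, φ, hφ⟩ := IsPreFibered.exists_isCartesian p hx f
  exact ⟨y, φ, inferInstance⟩

/-- two morphisms of the base lifted by the same morphism: being cartesian over one is being cartesian over the other -/
theorem isCartesian_of_isHomLift {R S R' S' : C} (f : R ⟶ S) (f' : R' ⟶ S') {a b : X} (φ : a ⟶ b)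
    [p.IsHomLift f' φ] (h : p.IsCartesian f φ) : p.IsCartesian f' φ := by
  obtain rfl : R = R' := (IsHomLift.domain_eq p f φ).symm.trans (IsHomLift.domain_eq p f' φ)
  obtain rfl : S = S' := (IsHomLift.codomain_eq p f φ).symm.trans (IsHomLift.codomain_eq p f' φ)
  obtain rfl : f = f' := by rw [IsHomLift.fac p f φ, IsHomLift.fac p f' φ]
  exact h

theorem isCartesian_iff_map {R S : C} (f : R ⟶ S) {a b : X} (φ : a ⟶ b) [p.IsHomLift f φ] :
    p.IsCartesian f φ ↔ p.IsCartesian (p.map φ) φ :=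
  ⟨fun h => isCartesian_of_isHomLift f _ φ h, fun h => isCartesian_of_isHomLift _ f φ h⟩

theorem isStronglyCartesian_of_isHomLift' {R S R' S' : C} (f : R ⟶ S) (f' : R' ⟶ S') {a b : X} (φ : a ⟶ b)
    [p.IsHomLift f' φ] (h : p.IsStronglyCartesian f φ) : p.IsStronglyCartesian f' φ := by
  obtain rfl : R = R' := (IsHomLift.domain_eq p f φ).symm.trans (IsHomLift.domain_eq p f' φ)
  obtain rfl : S = S' := (IsHomLift.codomain_eq p f φ).symm.trans (IsHomLift.codomain_eq p f' φ)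
  obtain rfl : f = f' := by rw [IsHomLift.fac p f φ, IsHomLift.fac p f' φ]
  exact h

theorem isStronglyCartesian_iff_map {R S : C} (f : R ⟶ S) {a b : X} (φ : a ⟶ b) [p.IsHomLift f φ] :
    p.IsStronglyCartesian f φ ↔ p.IsStronglyCartesian (p.map φ) φ :=
  ⟨fun h => isStronglyCartesian_of_isHomLift' f _ φ h, fun h => isStronglyCartesian_of_isHomLift' _ f φ h⟩

end General

section Equiv

variable {C : Type u} [Category.{v} C]
variable {𝒳 : BasedCategory.{v₂, u₂} C} {𝒴 : BasedCategory.{v₃, u₃} C}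

/-- a fully faithful functor over `C` reflects cartesian morphisms -/
theorem isCartesian_of_map (F : 𝒳 ⥤ᵇ 𝒴) [F.toFunctor.Full] [F.toFunctor.Faithful] {R S : C} (f : R ⟶ S)
    {a b : 𝒳.obj} (φ : a ⟶ b) (h : 𝒴.p.IsCartesian f (F.map φ)) : 𝒳.p.IsCartesian f φ where
  toIsHomLift := (BasedFunctor.isHomLift_iff F f φ).1 inferInstance
  universal_property {a'} φ' _ := by
    obtain ⟨χ, ⟨hχ1, hχ2⟩, hχ3⟩ := h.universal_property (F.map φ')
    have e : F.map (F.toFunctor.preimage χ) = χ := F.toFunctor.map_preimage χ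
    refine ⟨F.toFunctor.preimage χ, ⟨?_, ?_⟩, ?_⟩
    · rw [← BasedFunctor.isHomLift_iff F, e]; exact hχ1
    · apply F.toFunctor.map_injective
      rw [Functor.map_comp, e, hχ2]
    · rintro τ ⟨hτ1, hτ2⟩
      apply F.toFunctor.map_injective
      rw [e]
      exact hχ3 _ ⟨inferInstance, by rw [← Functor.map_comp, hτ2]⟩

/-- a fully faithful functor over `C` reflects strongly cartesian morphisms -/
theorem isStronglyCartesian_of_map (F : 𝒳 ⥤ᵇ 𝒴) [F.toFunctor.Full] [F.toFunctor.Faithful] {R S : C} (f : R ⟶ S)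
    {a b : 𝒳.obj} (φ : a ⟶ b) (h : 𝒴.p.IsStronglyCartesian f (F.map φ)) : 𝒳.p.IsStronglyCartesian f φ where
  toIsHomLift := (BasedFunctor.isHomLift_iff F f φ).1 inferInstance
  universal_property' {a'} g φ' _ := by
    obtain ⟨χ, ⟨hχ1, hχ2⟩, hχ3⟩ := IsStronglyCartesian.universal_property 𝒴.p f (F.map φ) g (g ≫ f) rfl (F.map φ')
    have e : F.map (F.toFunctor.preimage χ) = χ := F.toFunctor.map_preimage χ
    refine ⟨F.toFunctor.preimage χ, ⟨?_, ?_⟩, ?_⟩
    · rw [← BasedFunctor.isHomLift_iff F, e]; exact hχ1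
    · apply F.toFunctor.map_injective
      rw [Functor.map_comp, e, hχ2]
    · rintro τ ⟨hτ1, hτ2⟩
      apply F.toFunctor.map_injective
      rw [e]
      exact hχ3 _ ⟨inferInstance, by rw [← Functor.map_comp, hτ2]⟩

/-- an equivalence over `C` preserves cartesian morphisms -/
theorem isCartesian_map {F : 𝒳 ⥤ᵇ 𝒴} (hF : FibCat.IsEquivOver F) {R S : C} (f : R ⟶ S)
    {a b : 𝒳.obj} (φ : a ⟶ b) (h : 𝒳.p.IsCartesian f φ) : 𝒴.p.IsCartesian f (F.map φ) where
  universal_property {y} ψ _ := by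
    have := Equiv.isEquivalence hF
    obtain ⟨ξ, e, he⟩ := Equiv.essSurjOver hF y
    have hy : 𝒴.p.obj y = R := IsHomLift.domain_eq 𝒴.p f ψ
    subst hy
    have h1 : 𝒴.p.IsHomLift f (e.hom ≫ ψ) := inferInstance
    have h2 : 𝒳.p.IsHomLift f (F.toFunctor.preimage (e.hom ≫ ψ)) := by
      rw [← BasedFunctor.isHomLift_iff F, F.toFunctor.map_preimage]; exact h1
    let χ := IsCartesian.map 𝒳.p f φ (F.toFunctor.preimage (e.hom ≫ ψ))
    have h3 : χ ≫ φ = F.toFunctor.preimage (e.hom ≫ ψ) := IsCartesian.fac _ _ _ _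
    have h4 : F.map χ ≫ F.map φ = e.hom ≫ ψ := by
      rw [← Functor.map_comp, h3, F.toFunctor.map_preimage]
    refine ⟨e.inv ≫ F.map χ, ⟨?_, ?_⟩, ?_⟩
    · have h5 : 𝒴.p.IsHomLift (𝟙 (𝒴.p.obj y)) e.inv := IsHomLift.lift_id_inv _ _ _
      have h6 : 𝒴.p.IsHomLift (𝟙 (𝒴.p.obj y)) (F.map χ) := BasedFunctor.preserves_isHomLift F _ _
      infer_instance
    · rw [Category.assoc, h4, Iso.inv_hom_id_assoc]
    · rintro τ ⟨hτ1, hτ2⟩
      rw [Iso.eq_inv_comp]
      have h7 : 𝒴.p.IsHomLift (𝟙 (𝒴.p.obj y)) (e.hom ≫ τ) := inferInstance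
      have h8 : 𝒳.p.IsHomLift (𝟙 (𝒴.p.obj y)) (F.toFunctor.preimage (e.hom ≫ τ)) := by
        rw [← BasedFunctor.isHomLift_iff F, F.toFunctor.map_preimage]; exact h7
      have h9 : F.toFunctor.preimage (e.hom ≫ τ) = χ := by
        apply IsCartesian.map_uniq
        apply F.toFunctor.map_injective
        rw [Functor.map_comp, F.toFunctor.map_preimage, F.toFunctor.map_preimage, Category.assoc, hτ2]
      rw [← h9, F.toFunctor.map_preimage]

/-- an equivalence over `C` preserves strongly cartesian morphisms -/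
theorem isStronglyCartesian_map {F : 𝒳 ⥤ᵇ 𝒴} (hF : FibCat.IsEquivOver F) {R S : C} (f : R ⟶ S)
    {a b : 𝒳.obj} (φ : a ⟶ b) (h : 𝒳.p.IsStronglyCartesian f φ) : 𝒴.p.IsStronglyCartesian f (F.map φ) where
  universal_property' {y} g ψ _ := by
    have := Equiv.isEquivalence hF
    obtain ⟨ξ, e, he⟩ := Equiv.essSurjOver hF y
    have h1 : 𝒴.p.IsHomLift (g ≫ f) (e.hom ≫ ψ) := inferInstance
    have h2 : 𝒳.p.IsHomLift (g ≫ f) (F.toFunctor.preimage (e.hom ≫ ψ)) := by
      rw [← BasedFunctor.isHomLift_iff F, F.toFunctor.map_preimage]; exact h1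
    let χ := IsStronglyCartesian.map 𝒳.p f φ (g := g) rfl (F.toFunctor.preimage (e.hom ≫ ψ))
    have h3 : χ ≫ φ = F.toFunctor.preimage (e.hom ≫ ψ) := IsStronglyCartesian.fac _ _ _ _ _
    have h4 : F.map χ ≫ F.map φ = e.hom ≫ ψ := by
      rw [← Functor.map_comp, h3, F.toFunctor.map_preimage]
    refine ⟨e.inv ≫ F.map χ, ⟨?_, ?_⟩, ?_⟩
    · have h5 : 𝒴.p.IsHomLift (𝟙 (𝒴.p.obj y)) e.inv := IsHomLift.lift_id_inv _ _ _
      have h6 : 𝒴.p.IsHomLift g (F.map χ) := BasedFunctor.preserves_isHomLift F _ _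
      infer_instance
    · rw [Category.assoc, h4, Iso.inv_hom_id_assoc]
    · rintro τ ⟨hτ1, hτ2⟩
      rw [Iso.eq_inv_comp]
      have h7 : 𝒴.p.IsHomLift g (e.hom ≫ τ) := inferInstance
      have h8 : 𝒳.p.IsHomLift g (F.toFunctor.preimage (e.hom ≫ τ)) := by
        rw [← BasedFunctor.isHomLift_iff F, F.toFunctor.map_preimage]; exact h7
      have h9 : F.toFunctor.preimage (e.hom ≫ τ) = χ := by
        apply IsStronglyCartesian.map_uniq
        apply F.toFunctor.map_injective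
        rw [Functor.map_comp, F.toFunctor.map_preimage, F.toFunctor.map_preimage, Category.assoc, hτ2]
      rw [← h9, F.toFunctor.map_preimage]

theorem isCartesian_map_iff {F : 𝒳 ⥤ᵇ 𝒴} (hF : FibCat.IsEquivOver F) {R S : C} (f : R ⟶ S)
    {a b : 𝒳.obj} (φ : a ⟶ b) : 𝒴.p.IsCartesian f (F.map φ) ↔ 𝒳.p.IsCartesian f φ := by
  have := Equiv.isEquivalence hF
  exact ⟨isCartesian_of_map F f φ, isCartesian_map hF f φ⟩

theorem isStronglyCartesian_map_iff {F : 𝒳 ⥤ᵇ 𝒴} (hF : FibCat.IsEquivOver F) {R S : C} (f : R ⟶ S)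
    {a b : 𝒳.obj} (φ : a ⟶ b) : 𝒴.p.IsStronglyCartesian f (F.map φ) ↔ 𝒳.p.IsStronglyCartesian f φ := by
  have := Equiv.isEquivalence hF
  exact ⟨isStronglyCartesian_of_map F f φ, isStronglyCartesian_map hF f φ⟩

/-- the inverse equivalence -/
theorem exists_inverse {F : 𝒳 ⥤ᵇ 𝒴} (hF : FibCat.IsEquivOver F) :
    ∃ G : 𝒴 ⥤ᵇ 𝒳, FibCat.IsEquivOver G ∧ Nonempty (BasedFunctor.comp F G ≅ BasedFunctor.id 𝒳) ∧
      Nonempty (BasedFunctor.comp G F ≅ BasedFunctor.id 𝒴) := by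
  obtain ⟨G, h1, h2⟩ := hF
  exact ⟨G, ⟨F, h2, h1⟩, h1, h2⟩

theorem isFibered_of_isEquivOver {F : 𝒳 ⥤ᵇ 𝒴} (hF : FibCat.IsEquivOver F) (h : 𝒴.p.IsFibered) : 𝒳.p.IsFibered := by
  refine IsFibered.of_exists_isStronglyCartesian (fun a R f => ?_)
  have := Equiv.isEquivalence hF
  obtain ⟨y, ψ, hψ⟩ := exists_isStronglyCartesian (p := 𝒴.p) f (F.w_obj a)
  obtain ⟨ξ, e, he⟩ := Equiv.essSurjOver hF y
  have hy : 𝒴.p.obj y = R := IsHomLift.domain_eq 𝒴.p f ψ
  subst hy
  refine ⟨ξ, F.toFunctor.preimage (e.hom ≫ ψ), isStronglyCartesian_of_map F _ _ ?_⟩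
  rw [F.toFunctor.map_preimage]
  have := IsStronglyCartesian.comp (p := 𝒴.p) (f := 𝟙 (𝒴.p.obj y)) (g := f) (φ := e.hom) (ψ := ψ)
  rwa [Category.id_comp] at this

theorem isFibered_iff {F : 𝒳 ⥤ᵇ 𝒴} (hF : FibCat.IsEquivOver F) : 𝒳.p.IsFibered ↔ 𝒴.p.IsFibered := by
  obtain ⟨G, hG, -⟩ := exists_inverse hF
  exact ⟨isFibered_of_isEquivOver hG, isFibered_of_isEquivOver hF⟩

theorem isPreFibered_of_isEquivOver {F : 𝒳 ⥤ᵇ 𝒴} (hF : FibCat.IsEquivOver F) (h : 𝒴.p.IsPreFibered) :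
    𝒳.p.IsPreFibered := by
  refine ⟨fun {a R} f => ?_⟩
  have := Equiv.isEquivalence hF
  obtain ⟨y, ψ, hψ⟩ := IsPreFibered.exists_isCartesian 𝒴.p (F.w_obj a) f
  obtain ⟨ξ, e, he⟩ := Equiv.essSurjOver hF y
  have hy : 𝒴.p.obj y = R := IsHomLift.domain_eq 𝒴.p f ψ
  subst hy
  refine ⟨ξ, F.toFunctor.preimage (e.hom ≫ ψ), isCartesian_of_map F _ _ ?_⟩
  rw [F.toFunctor.map_preimage]
  infer_instance

theorem isPreFibered_iff {F : 𝒳 ⥤ᵇ 𝒴} (hF : FibCat.IsEquivOver F) : 𝒳.p.IsPreFibered ↔ 𝒴.p.IsPreFibered := by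
  obtain ⟨G, hG, -⟩ := exists_inverse hF
  exact ⟨isPreFibered_of_isEquivOver hG, isPreFibered_of_isEquivOver hF⟩

theorem isFibGrpd_of_isEquivOver {F : 𝒳 ⥤ᵇ 𝒴} (hF : FibCat.IsEquivOver F) (h : FibCat.IsFibGrpd 𝒴.p) :
    FibCat.IsFibGrpd 𝒳.p where
  exists_lift {x V} f := by
    have := isFibered_of_isEquivOver hF (IsFibGrpd.isFibered _ h)
    obtain ⟨y, φ, hφ⟩ := exists_isStronglyCartesian (p := 𝒳.p) f (x := x) rfl
    exact ⟨y, φ, inferInstance⟩
  isStronglyCartesian {y x} φ := by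
    rw [← isStronglyCartesian_map_iff hF]
    exact IsFibGrpd.isStronglyCartesian_of_isHomLift h _ _

theorem isFibGrpd_iff_of_isEquivOver {F : 𝒳 ⥤ᵇ 𝒴} (hF : FibCat.IsEquivOver F) :
    FibCat.IsFibGrpd 𝒳.p ↔ FibCat.IsFibGrpd 𝒴.p := by
  obtain ⟨G, hG, -⟩ := exists_inverse hF
  exact ⟨isFibGrpd_of_isEquivOver hG, isFibGrpd_of_isEquivOver hF⟩

end Equiv

end K159.Cart
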