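import Groth.Agent.FibCat.K159.Cart
import Groth.Prelude.Def_FibClv

/-!
Cleavages: comparison morphisms, cocycle identity, fibredness, normalised cleavages.
-/

set_option autoImplicit false
set_option backward.isDefEq.respectTransparency false
set_option backward.isDefEq.respectTransparency.types false

universe v₁ v₂ v₃ u₁ u₂ u₃

open CategoryTheory CategoryTheory.Functor

namespace K159.Clv

variable {𝒮 : Type u₁} {𝒳 : Type u₂} [Category.{v₁} 𝒮] [Category.{v₂} 𝒳] {p : 𝒳 ⥤ 𝒮} (K : FibCat.Cleavage p)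

theorem congr_app_lift {R S : 𝒮} {f f' : R ⟶ S} (h : f = f') (a : p.Fiber S) :
    Fiber.fiberInclusion.map ((K.inverseImageCongr h).hom.app a) ≫ K.lift a.2 f' = K.lift a.2 f := by
  subst h
  have : (K.inverseImageCongr (rfl : f = f)).hom.app a = 𝟙 _ := by
    simp [FibCat.Cleavage.inverseImageCongr]
  rw [this, Functor.map_id]
  exact Category.id_comp _

theorem map_lift {R S : 𝒮} (f : R ⟶ S) {a b : p.Fiber S} (φ : a ⟶ b) :
    Fiber.fiberInclusion.map ((K.inverseImage f).map φ) ≫ K.lift b.2 f =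
      K.lift a.2 f ≫ Fiber.fiberInclusion.map φ := by
  rw [FibCat.Cleavage.inverseImage_map]
  exact IsCartesian.fac p f (K.lift b.2 f) _

theorem comp_app_lift {R S T : 𝒮} (f : T ⟶ S) (g : R ⟶ T) (a : p.Fiber S) :
    Fiber.fiberInclusion.map ((K.comp f g).app a) ≫ K.lift a.2 (g ≫ f) =
      K.lift (K.obj_proj a.2 f) g ≫ K.lift a.2 f := by
  rw [FibCat.Cleavage.comp_app]
  exact IsCartesian.fac p (g ≫ f) (K.lift a.2 (g ≫ f)) _

/-- uniqueness of morphisms of a fibre into an inverse image -/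
theorem fiber_ext {R S : 𝒮} (f : R ⟶ S) {a : p.Fiber S} {z : p.Fiber R} {x y : z ⟶ (K.inverseImage f).obj a}
    (h : (Fiber.fiberInclusion.map x : z.1 ⟶ K.obj a.2 f) ≫ K.lift a.2 f = (Fiber.fiberInclusion.map y : z.1 ⟶ K.obj a.2 f) ≫ K.lift a.2 f) : x = y := by
  apply Fiber.hom_ext
  have h1 : p.IsHomLift (𝟙 R) (Fiber.fiberInclusion.map x : z.1 ⟶ K.obj a.2 f) := x.2
  have h2 : p.IsHomLift (𝟙 R) (Fiber.fiberInclusion.map y : z.1 ⟶ K.obj a.2 f) := y.2
  exact IsCartesian.ext p f (K.lift a.2 f) (Fiber.fiberInclusion.map x : z.1 ⟶ K.obj a.2 f) (Fiber.fiberInclusion.map y : z.1 ⟶ K.obj a.2 f) h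

theorem comp_id_app {S T : 𝒮} (f : T ⟶ S) (a : p.Fiber S) :
    Fiber.fiberInclusion.map ((K.comp f (𝟙 T)).app a ≫ (K.inverseImageCongr (Category.id_comp f)).hom.app a) =
      (K.transport (𝟙 T)).app ((K.inverseImage f).obj a) := by
  have h0 : p.IsHomLift (𝟙 T) ((K.transport (𝟙 T)).app ((K.inverseImage f).obj a)) := inferInstance
  refine IsCartesian.ext p f (K.lift a.2 f) _ _ ?_
  rw [Functor.map_comp]
  refine (Category.assoc _ _ _).trans ?_
  rw [congr_app_lift K (Category.id_comp f) a, comp_app_lift]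
  rfl

theorem comp_id_left_app {S T : 𝒮} (f : T ⟶ S) (a : p.Fiber S) :
    (K.comp (𝟙 S) f).app a ≫ (K.inverseImageCongr (Category.comp_id f)).hom.app a =
      (K.inverseImage f).map (Fiber.homMk p S (K.lift a.2 (𝟙 S))) := by
  apply fiber_ext K f
  rw [Functor.map_comp]
  refine (Category.assoc _ _ _).trans ?_
  rw [congr_app_lift K (Category.comp_id f) a, comp_app_lift]
  exact (map_lift K f (Fiber.homMk p S (K.lift a.2 (𝟙 S)))).symm

theorem comp_cocycle {S T U V : 𝒮} (f : T ⟶ S) (g : U ⟶ T) (h : V ⟶ U) :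
    Functor.whiskerLeft (K.inverseImage f) (K.comp g h) ≫ K.comp f (h ≫ g) ≫ (K.inverseImageCongr (Category.assoc h g f)).hom =
      Functor.whiskerRight (K.comp f g) (K.inverseImage h) ≫ K.comp (g ≫ f) h := by
  apply NatTrans.ext
  funext a
  apply fiber_ext K (h ≫ g ≫ f)
  rw [NatTrans.comp_app, NatTrans.comp_app, NatTrans.comp_app, Functor.map_comp, Functor.map_comp, Functor.map_comp]
  have e1 : (Fiber.fiberInclusion.map ((Functor.whiskerLeft (K.inverseImage f) (K.comp g h)).app a) ≫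
      Fiber.fiberInclusion.map ((K.comp f (h ≫ g)).app a) ≫
        Fiber.fiberInclusion.map ((K.inverseImageCongr (Category.assoc h g f)).hom.app a)) ≫ K.lift a.2 (h ≫ g ≫ f) =
      K.lift (K.obj_proj (K.obj_proj a.2 f) g) h ≫ K.lift (K.obj_proj a.2 f) g ≫ K.lift a.2 f := by
    rw [Category.assoc, Category.assoc, congr_app_lift K (Category.assoc h g f) a, comp_app_lift]
    have := comp_app_lift K g h ((K.inverseImage f).obj a)
    refine (Category.assoc _ _ _).symm.trans ?_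
    refine (congrArg (· ≫ K.lift a.2 f) this).trans ?_
    exact Category.assoc _ _ _
  have e2 : (Fiber.fiberInclusion.map ((Functor.whiskerRight (K.comp f g) (K.inverseImage h)).app a) ≫
        Fiber.fiberInclusion.map ((K.comp (g ≫ f) h).app a)) ≫ K.lift a.2 (h ≫ g ≫ f) =
      K.lift (K.obj_proj (K.obj_proj a.2 f) g) h ≫ K.lift (K.obj_proj a.2 f) g ≫ K.lift a.2 f := by
    rw [Category.assoc, comp_app_lift]
    have := map_lift K h ((K.comp f g).app a)
    refine (Category.assoc _ _ _).symm.trans ?_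
    refine (congrArg (· ≫ K.lift a.2 (g ≫ f)) this).trans ?_
    refine (Category.assoc _ _ _).trans ?_
    refine congrArg (K.lift (K.obj_proj (K.obj_proj a.2 f) g) h ≫ ·) ?_
    exact comp_app_lift K f g a
  exact e1.trans e2.symm

/-- a morphism over an identity followed by a cartesian one is cartesian if it is an isomorphism -/
theorem isCartesian_comp_of_isIso {R S : 𝒮} {f : R ⟶ S} {a b c : 𝒳} (χ : a ⟶ b) (φ : b ⟶ c) [IsIso χ]
    [p.IsHomLift (𝟙 R) χ] [p.IsCartesian f φ] : p.IsCartesian f (χ ≫ φ) := by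
  have : p.IsHomLift (𝟙 R) (asIso χ).hom := (inferInstance : p.IsHomLift (𝟙 R) χ)
  exact IsCartesian.of_iso_comp p f φ (asIso χ)

/-- the comparison of two cartesian morphisms is an isomorphism -/
theorem isIso_map_of_isCartesian {R S : 𝒮} {f : R ⟶ S} {a b c : 𝒳} (φ : a ⟶ c) (ψ : b ⟶ c)
    [p.IsCartesian f φ] [p.IsCartesian f ψ] : IsIso (IsCartesian.map p f ψ φ) :=
  (inferInstance : IsIso (IsCartesian.domainUniqueUpToIso p f ψ φ).hom)

theorem isIso_comp_of_isFibered [p.IsFibered] {R S T : 𝒮} (f : T ⟶ S) (g : R ⟶ T) : IsIso (K.comp f g) := by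
  have h1 : ∀ a : p.Fiber S, IsIso ((K.comp f g).app a) := by
    intro a
    have h2 : p.IsCartesian (g ≫ f) (K.lift (K.obj_proj a.2 f) g ≫ K.lift a.2 f) := inferInstance
    have h3 : IsIso (IsCartesian.map p (g ≫ f) (K.lift a.2 (g ≫ f)) (K.lift (K.obj_proj a.2 f) g ≫ K.lift a.2 f)) :=
      isIso_map_of_isCartesian _ _
    have h4 : p.IsHomLift (𝟙 R) (IsCartesian.map p (g ≫ f) (K.lift a.2 (g ≫ f)) (K.lift (K.obj_proj a.2 f) g ≫ K.lift a.2 f)) := inferInstance
    refine ⟨⟨inv (IsCartesian.map p (g ≫ f) (K.lift a.2 (g ≫ f)) (K.lift (K.obj_proj a.2 f) g ≫ K.lift a.2 f)), inferInstance⟩, ?_, ?_⟩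
    · exact Subtype.ext (IsIso.hom_inv_id (IsCartesian.map p (g ≫ f) (K.lift a.2 (g ≫ f)) (K.lift (K.obj_proj a.2 f) g ≫ K.lift a.2 f)))
    · exact Subtype.ext (IsIso.inv_hom_id (IsCartesian.map p (g ≫ f) (K.lift a.2 (g ≫ f)) (K.lift (K.obj_proj a.2 f) g ≫ K.lift a.2 f)))
  exact NatIso.isIso_of_isIso_app _

theorem isCartesian_lift_comp_lift {R S T : 𝒮} (f : T ⟶ S) (g : R ⟶ T) (a : p.Fiber S) [IsIso (K.comp f g)] :
    p.IsCartesian (g ≫ f) (K.lift (K.obj_proj a.2 f) g ≫ K.lift a.2 f) := by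
  have h1 : IsIso ((K.comp f g).app a) := inferInstance
  have h2 : IsIso (Fiber.fiberInclusion.map ((K.comp f g).app a)) := inferInstance
  rw [FibCat.Cleavage.comp_app] at h2
  have := isCartesian_comp_of_isIso (p := p) (f := g ≫ f)
    (IsCartesian.map p (g ≫ f) (K.lift a.2 (g ≫ f)) (K.lift (K.obj_proj a.2 f) g ≫ K.lift a.2 f)) (K.lift a.2 (g ≫ f))
  rwa [IsCartesian.fac] at this

theorem isFibered_of_isIso_comp (h : ∀ (R S T : 𝒮) (f : T ⟶ S) (g : R ⟶ T), IsIso (K.comp f g)) : p.IsFibered where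
  exists_isCartesian' f := ⟨K.obj rfl f, K.lift rfl f, inferInstance⟩
  comp {R S T} f g {a b c} φ ψ hφ hψ := by
    have hc : p.obj c = T := IsHomLift.codomain_eq p g ψ
    let β := IsCartesian.map p g (K.lift hc g) ψ
    have eβ : β ≫ K.lift hc g = ψ := IsCartesian.fac _ _ _ _
    have iβ : IsIso β := isIso_map_of_isCartesian _ _
    have h1 : p.IsCartesian f (φ ≫ β) := by
      have : p.IsHomLift (𝟙 S) (asIso β).hom := (inferInstance : p.IsHomLift (𝟙 S) β)
      exact IsCartesian.of_comp_iso p f φ (asIso β)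
    let α := IsCartesian.map p f (K.lift (K.obj_proj hc g) f) (φ ≫ β)
    have eα : α ≫ K.lift (K.obj_proj hc g) f = φ ≫ β := IsCartesian.fac _ _ _ _
    have iα : IsIso α := isIso_map_of_isCartesian _ _
    have h2 := h R T S g f
    have h3 : p.IsCartesian (f ≫ g) (K.lift (K.obj_proj hc g) f ≫ K.lift hc g) :=
      isCartesian_lift_comp_lift K g f ⟨c, hc⟩
    have h4 : p.IsCartesian (f ≫ g) (α ≫ K.lift (K.obj_proj hc g) f ≫ K.lift hc g) := isCartesian_comp_of_isIso _ _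
    rwa [← Category.assoc, eα, Category.assoc, eβ] at h4

theorem isFibered_iff_isIso_comp : p.IsFibered ↔ ∀ (R S T : 𝒮) (f : T ⟶ S) (g : R ⟶ T), IsIso (K.comp f g) :=
  ⟨fun _ _ _ _ f g => isIso_comp_of_isFibered K f g, isFibered_of_isIso_comp K⟩

section IsoBase

variable [p.IsFibered] {S T : 𝒮} (f : T ⟶ S) [IsIso f]

theorem isIso_lift (a : p.Fiber S) : IsIso (K.lift a.2 f) :=
  IsStronglyCartesian.isIso_of_base_isIso p f (K.lift a.2 f)

theorem faithful_inverseImage : (K.inverseImage f).Faithful where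
  map_injective {a b} φ ψ h := by
    have ha := isIso_lift K f a
    have h1 := map_lift K f φ
    have h2 := map_lift K f ψ
    rw [h, h2] at h1
    exact Fiber.hom_ext ((cancel_epi (K.lift a.2 f)).1 h1).symm

theorem full_inverseImage : (K.inverseImage f).Full where
  map_surjective {a b} χ := by
    have ha := isIso_lift K f a
    have hb := isIso_lift K f b
    have hχ : p.IsHomLift (𝟙 T) χ.1 := χ.2
    have hinv : p.IsHomLift (inv f) (inv (K.lift a.2 f)) := inferInstance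
    have h1 : p.IsHomLift (inv f ≫ 𝟙 T ≫ f) (inv (K.lift a.2 f) ≫ χ.1 ≫ K.lift b.2 f) := by
      have : p.IsHomLift (𝟙 T ≫ f) (χ.1 ≫ K.lift b.2 f) := IsHomLift.comp p _ _ _ _
      exact IsHomLift.comp p _ _ _ _
    rw [Category.id_comp, IsIso.inv_hom_id] at h1
    refine ⟨⟨inv (K.lift a.2 f) ≫ χ.1 ≫ K.lift b.2 f, h1⟩, ?_⟩
    apply fiber_ext K f
    refine (map_lift K f _).trans ?_
    exact IsIso.hom_inv_id_assoc (K.lift a.2 f) _

theorem essSurj_inverseImage : (K.inverseImage f).EssSurj where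
  mem_essImage b := by
    let a : p.Fiber S := ⟨K.obj b.2 (inv f), K.obj_proj b.2 (inv f)⟩
    let θ : K.obj a.2 f ⟶ b.1 := K.lift a.2 f ≫ K.lift b.2 (inv f)
    have h1 : IsIso (K.lift a.2 f) := isIso_lift K f a
    have h2 : IsIso (K.lift b.2 (inv f)) := isIso_lift K (inv f) b
    have h3 : p.IsHomLift (𝟙 T) θ := by
      have := IsHomLift.comp p f (inv f) (K.lift a.2 f) (K.lift b.2 (inv f))
      rwa [IsIso.hom_inv_id] at this
    have h4 : IsIso θ := inferInstance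
    exact ⟨a, ⟨⟨⟨θ, h3⟩, ⟨inv θ, inferInstance⟩, Subtype.ext (IsIso.hom_inv_id θ), Subtype.ext (IsIso.inv_hom_id θ)⟩⟩⟩

theorem isEquivalence_inverseImage : (K.inverseImage f).IsEquivalence :=
  { faithful := faithful_inverseImage K f, full := full_inverseImage K f, essSurj := essSurj_inverseImage K f }

end IsoBase

theorem existsUnique_natTrans (C : Type u₃) [Category.{v₃} C] (F G : 𝒳 ⥤ C)
    (u : ∀ S : 𝒮, (Fiber.fiberInclusion ⋙ F : p.Fiber S ⥤ C) ⟶ Fiber.fiberInclusion ⋙ G)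
    (hu : ∀ ⦃T S : 𝒮⦄ (f : T ⟶ S) (a : p.Fiber S),
      F.map ((K.transport f).app a) ≫ (u S).app a = (u T).app ((K.inverseImage f).obj a) ≫ G.map ((K.transport f).app a)) :
    ∃! v : F ⟶ G, ∀ (S : 𝒮) (a : p.Fiber S), v.app a.1 = (u S).app a := by
  refine ⟨⟨fun x => (u (p.obj x)).app ⟨x, rfl⟩, ?_⟩, ?_, ?_⟩
  · intro b a φ
    let L := K.lift (rfl : p.obj a = p.obj a) (p.map φ)
    let χ : b ⟶ K.obj (rfl : p.obj a = p.obj a) (p.map φ) := IsCartesian.map p (p.map φ) L φ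
    have e : χ ≫ L = φ := IsCartesian.fac _ _ _ _
    have h1 := hu (p.map φ) ⟨a, rfl⟩
    have h2 := (u (p.obj b)).naturality (X := ⟨b, rfl⟩) (Y := (K.inverseImage (p.map φ)).obj ⟨a, rfl⟩) ⟨χ, inferInstance⟩
    change F.map χ ≫ (u (p.obj b)).app ((K.inverseImage (p.map φ)).obj ⟨a, rfl⟩) = (u (p.obj b)).app ⟨b, rfl⟩ ≫ G.map χ at h2
    change F.map L ≫ (u (p.obj a)).app ⟨a, rfl⟩ = (u (p.obj b)).app ((K.inverseImage (p.map φ)).obj ⟨a, rfl⟩) ≫ G.map L at h1
    calc F.map φ ≫ (u (p.obj a)).app ⟨a, rfl⟩ = (F.map χ ≫ F.map L) ≫ (u (p.obj a)).app ⟨a, rfl⟩ := by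
          rw [← F.map_comp, e]
      _ = F.map χ ≫ F.map L ≫ (u (p.obj a)).app ⟨a, rfl⟩ := Category.assoc _ _ _
      _ = F.map χ ≫ (u (p.obj b)).app ((K.inverseImage (p.map φ)).obj ⟨a, rfl⟩) ≫ G.map L := by rw [h1]
      _ = (F.map χ ≫ (u (p.obj b)).app ((K.inverseImage (p.map φ)).obj ⟨a, rfl⟩)) ≫ G.map L := (Category.assoc _ _ _).symm
      _ = ((u (p.obj b)).app ⟨b, rfl⟩ ≫ G.map χ) ≫ G.map L := by rw [h2]
      _ = (u (p.obj b)).app ⟨b, rfl⟩ ≫ G.map χ ≫ G.map L := Category.assoc _ _ _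
      _ = (u (p.obj b)).app ⟨b, rfl⟩ ≫ G.map φ := by rw [← G.map_comp, e]
  · rintro S ⟨a, ha⟩
    subst ha
    rfl
  · intro v hv
    apply NatTrans.ext
    funext x
    exact hv _ ⟨x, rfl⟩

theorem exists_isNormalised [p.IsPreFibered] : ∃ K : FibCat.Cleavage p, K.IsNormalised := by
  have key : ∀ (R S : 𝒮) (a : 𝒳) (_ : p.obj a = S) (f : R ⟶ S), ∃ (b : 𝒳) (φ : b ⟶ a), p.IsCartesian f φ ∧
      ((∃ h : R = S, f = eqToHom h) → ∃ h' : b = a, φ = eqToHom h') := by
    intro R S a ha f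
    by_cases hh : ∃ h : R = S, f = eqToHom h
    · obtain ⟨h, rfl⟩ := hh
      subst h
      subst ha
      refine ⟨a, 𝟙 a, ?_, fun _ => ⟨rfl, rfl⟩⟩
      rw [eqToHom_refl]
      infer_instance
    · obtain ⟨b, φ, hφ⟩ := IsPreFibered.exists_isCartesian p ha f
      exact ⟨b, φ, hφ, fun h => (hh h).elim⟩
  choose b φ h1 h2 using key
  exact ⟨⟨fun {R S a} ha f => b R S a ha f, fun {R S a} ha f => φ R S a ha f, fun {R S a} ha f => h1 R S a ha f⟩,
    fun S a ha => h2 S S a ha (𝟙 S) ⟨rfl, rfl⟩⟩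

end K159.Clv
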