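import Groth.Prelude.Def_FibCat2

/-!
Equivalences over the base (`FibCat.IsEquivOver`): the underlying functor is fully faithful and essentially
surjective over identities, and conversely.  All universes are independent.
-/

set_option autoImplicit false
set_option backward.isDefEq.respectTransparency false
set_option backward.isDefEq.respectTransparency.types false

universe v₄ u₄ v₃ u₃ v₂ u₂ v u

open CategoryTheory CategoryTheory.Functor

namespace K159.Equiv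

variable {C : Type u} [Category.{v} C]
variable {𝒳 : BasedCategory.{v₂, u₂} C} {𝒴 : BasedCategory.{v₃, u₃} C} {𝒵 : BasedCategory.{v₄, u₄} C}

/-- A 2-isomorphism over `C` gives a natural isomorphism of the underlying functors. -/
def forgetIso {F G : 𝒳 ⥤ᵇ 𝒴} (e : F ≅ G) : F.toFunctor ≅ G.toFunctor :=
  (BasedNatTrans.forgetful _ _).mapIso e

@[simp] theorem forgetIso_hom_app {F G : 𝒳 ⥤ᵇ 𝒴} (e : F ≅ G) (x : 𝒳.obj) :
    (forgetIso e).hom.app x = e.hom.toNatTrans.app x := rfl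

@[simp] theorem forgetIso_inv_app {F G : 𝒳 ⥤ᵇ 𝒴} (e : F ≅ G) (x : 𝒳.obj) :
    (forgetIso e).inv.app x = e.inv.toNatTrans.app x := rfl

/-- The component at an object of a 2-isomorphism over `C`. -/
def appIso {F G : 𝒳 ⥤ᵇ 𝒴} (e : F ≅ G) (x : 𝒳.obj) : F.obj x ≅ G.obj x :=
  (forgetIso e).app x

@[simp] theorem appIso_hom {F G : 𝒳 ⥤ᵇ 𝒴} (e : F ≅ G) (x : 𝒳.obj) :
    (appIso e x).hom = e.hom.toNatTrans.app x := rfl

@[simp] theorem appIso_inv {F G : 𝒳 ⥤ᵇ 𝒴} (e : F ≅ G) (x : 𝒳.obj) :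
    (appIso e x).inv = e.inv.toNatTrans.app x := rfl

instance appIso_isHomLift {F G : 𝒳 ⥤ᵇ 𝒴} (e : F ≅ G) (x : 𝒳.obj) :
    𝒴.p.IsHomLift (𝟙 (𝒳.p.obj x)) (appIso e x).hom :=
  e.hom.isHomLift' x

theorem isEquivalence {F : 𝒳 ⥤ᵇ 𝒴} (hF : FibCat.IsEquivOver F) : F.toFunctor.IsEquivalence := by
  obtain ⟨G, ⟨e⟩, ⟨e'⟩⟩ := hF
  exact (CategoryTheory.Equivalence.mk F.toFunctor G.toFunctor (forgetIso e).symm (forgetIso e')).isEquivalence_functor

theorem essSurjOver {F : 𝒳 ⥤ᵇ 𝒴} (hF : FibCat.IsEquivOver F) (η : 𝒴.obj) :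
    ∃ (ξ : 𝒳.obj) (e : F.obj ξ ≅ η), 𝒴.p.IsHomLift (𝟙 (𝒴.p.obj η)) e.hom := by
  obtain ⟨G, ⟨e⟩, ⟨e'⟩⟩ := hF
  exact ⟨G.obj η, appIso e' η, appIso_isHomLift e' η⟩

section Inverse

variable (F : 𝒳 ⥤ᵇ 𝒴) [F.toFunctor.Full] [F.toFunctor.Faithful]
  (ξ : 𝒴.obj → 𝒳.obj) (e : ∀ η, F.obj (ξ η) ≅ η) (he : ∀ η, 𝒴.p.IsHomLift (𝟙 (𝒴.p.obj η)) (e η).hom)

/-- the quasi-inverse of a fully faithful functor over `C` built from chosen preimages -/
noncomputable def inverseFunctor : 𝒴.obj ⥤ 𝒳.obj where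
  obj η := ξ η
  map {η η'} φ := F.toFunctor.preimage ((e η).hom ≫ φ ≫ (e η').inv)
  map_id η := F.toFunctor.map_injective (by simp)
  map_comp φ ψ := F.toFunctor.map_injective (by simp)

include he in
theorem inverse_isHomLift {η η' : 𝒴.obj} (φ : η ⟶ η') :
    𝒳.p.IsHomLift (𝒴.p.map φ) ((inverseFunctor F ξ e).map φ) := by
  have h1 := he η
  have h2 := he η'
  rw [← BasedFunctor.isHomLift_iff F]
  have : F.map ((inverseFunctor F ξ e).map φ) = (e η).hom ≫ φ ≫ (e η').inv := by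
    simp [inverseFunctor]
  rw [this]
  have h3 : 𝒴.p.IsHomLift (𝟙 (𝒴.p.obj η')) (e η').inv := IsHomLift.lift_id_inv _ _ _
  have h4 : 𝒴.p.IsHomLift (𝒴.p.map φ) (φ ≫ (e η').inv) := inferInstance
  exact IsHomLift.comp_lift_id_left 𝒴.p _ _ _

/-- the quasi-inverse, as a functor over `C` -/
noncomputable def inverse : 𝒴 ⥤ᵇ 𝒳 where
  toFunctor := inverseFunctor F ξ e
  w := Functor.ext
    (fun η => by
      have := he η
      exact (F.w_obj (ξ η)).symm.trans (IsHomLift.domain_eq 𝒴.p (𝟙 (𝒴.p.obj η)) (e η).hom))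
    (fun η η' φ => by
      have := inverse_isHomLift F ξ e he φ
      exact IsHomLift.fac' 𝒳.p (𝒴.p.map φ) ((inverseFunctor F ξ e).map φ))

include ξ e he in
theorem isEquivOver_aux : FibCat.IsEquivOver F := by
  refine ⟨inverse F ξ e he, ⟨?_⟩, ⟨?_⟩⟩
  · refine BasedNatIso.mkNatIso (NatIso.ofComponents
      (fun x => F.toFunctor.preimageIso (e (F.obj x))) (fun {x y} f => ?_)) (fun x => ?_)
    · apply F.toFunctor.map_injective
      change F.map (F.toFunctor.preimage ((e (F.obj x)).hom ≫ F.map f ≫ (e (F.obj y)).inv) ≫ F.toFunctor.preimage (e (F.obj y)).hom) =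
        F.map (F.toFunctor.preimage (e (F.obj x)).hom ≫ f)
      simp
    · rw [← BasedFunctor.isHomLift_iff F]
      have h := he (F.obj x)
      rw [F.w_obj x] at h
      change 𝒴.p.IsHomLift (𝟙 (𝒳.p.obj x)) (F.map (F.toFunctor.preimage (e (F.obj x)).hom))
      rwa [F.toFunctor.map_preimage]
  · refine BasedNatIso.mkNatIso (NatIso.ofComponents
      (fun y => e y) (fun {x y} f => ?_)) (fun y => he y)
    change F.map (F.toFunctor.preimage ((e x).hom ≫ f ≫ (e y).inv)) ≫ (e y).hom = (e x).hom ≫ f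
    simp

end Inverse

/-- `IsEquivOver` from full faithfulness and essential surjectivity over identities. -/
theorem isEquivOver_of (F : 𝒳 ⥤ᵇ 𝒴) [F.toFunctor.Full] [F.toFunctor.Faithful]
    (h : ∀ η : 𝒴.obj, ∃ (ξ : 𝒳.obj) (e : F.toFunctor.obj ξ ≅ η), 𝒴.p.IsHomLift (𝟙 (𝒴.p.obj η)) e.hom) :
    FibCat.IsEquivOver F := by
  choose ξ e he using h
  exact isEquivOver_aux F ξ e he

theorem isEquivOver_iff (F : 𝒳 ⥤ᵇ 𝒴) :
    FibCat.IsEquivOver F ↔
      (F.toFunctor.Full ∧ F.toFunctor.Faithful) ∧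
        ∀ η : 𝒴.obj, ∃ (ξ : 𝒳.obj) (e : F.toFunctor.obj ξ ≅ η), 𝒴.p.IsHomLift (𝟙 (𝒴.p.obj η)) e.hom := by
  constructor
  · intro h
    have := isEquivalence h
    exact ⟨⟨inferInstance, inferInstance⟩, essSurjOver h⟩
  · rintro ⟨⟨_, _⟩, h⟩
    exact isEquivOver_of F h

/-- If isomorphisms of `C` lift to `𝒳` with prescribed source, then a functor over `C` whose underlying functor is
an equivalence is an equivalence over `C`. -/
theorem isEquivOver_of_isEquivalence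
    (h𝒳 : ∀ ⦃T S : C⦄ (α : T ≅ S) (ξ : 𝒳.obj), 𝒳.p.obj ξ = T →
      ∃ (ξ' : 𝒳.obj) (e : ξ ≅ ξ'), 𝒳.p.IsHomLift α.hom e.hom)
    (F : 𝒳 ⥤ᵇ 𝒴) [F.toFunctor.IsEquivalence] : FibCat.IsEquivOver F := by
  refine isEquivOver_of F (fun η => ?_)
  let ξ := F.toFunctor.objPreimage η
  let e : F.toFunctor.obj ξ ≅ η := F.toFunctor.objObjPreimageIso η
  obtain ⟨ξ', e', he'⟩ := h𝒳 ((eqToIso (F.w_obj ξ)).symm ≪≫ 𝒴.p.mapIso e) ξ rfl
  refine ⟨ξ', (F.toFunctor.mapIso e').symm ≪≫ e, ?_⟩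
  have h1 : 𝒴.p.IsHomLift (((eqToIso (F.w_obj ξ)).symm ≪≫ 𝒴.p.mapIso e).hom) (F.toFunctor.mapIso e').hom :=
    BasedFunctor.preserves_isHomLift F _ _
  have h2 : 𝒴.p.IsHomLift (((eqToIso (F.w_obj ξ)).symm ≪≫ 𝒴.p.mapIso e).inv) (F.toFunctor.mapIso e').inv :=
    inferInstance
  have h3 : 𝒴.p.IsHomLift (((eqToIso (F.w_obj ξ)).symm ≪≫ 𝒴.p.mapIso e).hom) e.hom := by
    have h4 : 𝒴.p.IsHomLift (𝒴.p.map e.hom) e.hom := inferInstance
    simp only [Iso.trans_hom, Iso.symm_hom, eqToIso.inv, Functor.mapIso_hom]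
    infer_instance
  have h5 := IsHomLift.comp 𝒴.p ((eqToIso (F.w_obj ξ)).symm ≪≫ 𝒴.p.mapIso e).inv
    ((eqToIso (F.w_obj ξ)).symm ≪≫ 𝒴.p.mapIso e).hom (F.toFunctor.mapIso e').inv e.hom
  rw [Iso.inv_hom_id] at h5
  exact h5

end K159.Equiv
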