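import Groth.Agent.FibCat.K159.Fp
import Groth.Prelude.Def_W4stkcategoriessitesFib

/-!
Criteria on fibre categories for functors over the base: faithful, fully faithful, equivalence; fully faithful iff
the diagonal is an equivalence over the base.
-/

set_option autoImplicit false
set_option backward.isDefEq.respectTransparency false
set_option backward.isDefEq.respectTransparency.types false

universe v₄ u₄ v₃ u₃ v₂ u₂ v u

open CategoryTheory CategoryTheory.Functor CategoryTheory.Limits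

namespace K159.Fibre

variable {C : Type u} [Category.{v} C]
variable {𝒳 : BasedCategory.{v₂, u₂} C} {𝒴 : BasedCategory.{v₃, u₃} C}

theorem isHomLift_of_map_eq (G : 𝒳 ⥤ᵇ 𝒴) {x y : 𝒳.obj} {f g : x ⟶ y} (h : G.map f = G.map g) :
    𝒳.p.IsHomLift (𝒳.p.map f) g := by
  rw [← BasedFunctor.isHomLift_iff G, ← h]
  exact BasedFunctor.preserves_isHomLift G _ _

/-- every morphism `G x ⟶ G y` lies over a morphism `p x ⟶ p y` -/
theorem exists_isHomLift (G : 𝒳 ⥤ᵇ 𝒴) {x y : 𝒳.obj} (ψ : G.obj x ⟶ G.obj y) :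
    ∃ f : 𝒳.p.obj x ⟶ 𝒳.p.obj y, 𝒴.p.IsHomLift f ψ :=
  ⟨eqToHom (G.w_obj x).symm ≫ 𝒴.p.map ψ ≫ eqToHom (G.w_obj y), inferInstance⟩

theorem faithful_fiber (G : 𝒳 ⥤ᵇ 𝒴) [G.toFunctor.Faithful] (U : C) : (FibCat.fiberFunctor G U).Faithful where
  map_injective {x y} f g h := by
    apply Fiber.hom_ext
    apply G.toFunctor.map_injective
    exact congrArg Subtype.val h

theorem full_fiber (G : 𝒳 ⥤ᵇ 𝒴) [G.toFunctor.Full] (U : C) : (FibCat.fiberFunctor G U).Full where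
  map_surjective {x y} f := by
    have h1 : 𝒴.p.IsHomLift (𝟙 U) f.1 := f.2
    obtain ⟨g, hg⟩ := G.toFunctor.map_surjective (X := x.1) (Y := y.1) f.1
    have h2 : 𝒳.p.IsHomLift (𝟙 U) g := by
      rw [← BasedFunctor.isHomLift_iff G, hg]; exact h1
    exact ⟨⟨g, h2⟩, Subtype.ext hg⟩

theorem faithful_of_fiber (G : 𝒳 ⥤ᵇ 𝒴) (h𝒳 : FibCat.IsFibGrpd 𝒳.p) (h𝒴 : FibCat.IsFibGrpd 𝒴.p)
    (h : ∀ U : C, (FibCat.fiberFunctor G U).Faithful) : G.toFunctor.Faithful where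
  map_injective {x y} f g hfg := by
    have h1 : 𝒳.p.IsHomLift (𝒳.p.map f) g := isHomLift_of_map_eq G hfg
    have h2 : 𝒳.p.IsStronglyCartesian (𝒳.p.map f) g := Cart.IsFibGrpd.isStronglyCartesian_of_isHomLift h𝒳 _ _
    let χ := IsCartesian.map 𝒳.p (𝒳.p.map f) g f
    have e : χ ≫ g = f := IsCartesian.fac _ _ _ _
    have hχ : 𝒳.p.IsHomLift (𝟙 (𝒳.p.obj x)) χ := inferInstance
    have h3 : 𝒴.p.IsStronglyCartesian (𝒳.p.map f) (G.map g) := Cart.IsFibGrpd.isStronglyCartesian_of_isHomLift h𝒴 _ _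
    have h4 : G.map χ = 𝟙 _ := by
      apply IsCartesian.ext 𝒴.p (𝒳.p.map f) (G.map g)
      rw [← Functor.map_comp, e, Category.id_comp]
      exact hfg
    have h5 : (Fiber.homMk 𝒳.p (𝒳.p.obj x) χ) = 𝟙 _ := by
      apply (h (𝒳.p.obj x)).map_injective
      rw [Functor.map_id]
      exact Subtype.ext h4
    have h6 : χ = 𝟙 x := congrArg Subtype.val h5
    rw [← e, h6, Category.id_comp]

theorem full_of_fiber (G : 𝒳 ⥤ᵇ 𝒴) (h𝒳 : FibCat.IsFibGrpd 𝒳.p) (h𝒴 : FibCat.IsFibGrpd 𝒴.p)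
    (h : ∀ U : C, (FibCat.fiberFunctor G U).Full) : G.toFunctor.Full where
  map_surjective {x y} ψ := by
    obtain ⟨f, hf⟩ := exists_isHomLift G ψ
    obtain ⟨x', φ, hφ⟩ := h𝒳.exists_lift f
    have h3 : 𝒴.p.IsStronglyCartesian f (G.map φ) := Cart.IsFibGrpd.isStronglyCartesian_of_isHomLift h𝒴 _ _
    let χ := IsCartesian.map 𝒴.p f (G.map φ) ψ
    have e : χ ≫ G.map φ = ψ := IsCartesian.fac _ _ _ _
    have hχ : 𝒴.p.IsHomLift (𝟙 (𝒳.p.obj x)) χ := inferInstance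
    obtain ⟨g, hg⟩ := (h (𝒳.p.obj x)).map_surjective (X := ⟨x, rfl⟩) (Y := ⟨x', IsHomLift.domain_eq 𝒳.p f φ⟩) ⟨χ, hχ⟩
    have hg' : G.map g.1 = χ := congrArg Subtype.val hg
    exact ⟨g.1 ≫ φ, by rw [Functor.map_comp, hg', e]⟩

theorem essSurj_fiber_of_isEquivOver {G : 𝒳 ⥤ᵇ 𝒴} (hG : FibCat.IsEquivOver G) (U : C) :
    (FibCat.fiberFunctor G U).EssSurj where
  mem_essImage y := by
    obtain ⟨ξ, e, he⟩ := Equiv.essSurjOver hG y.1
    have hξ : 𝒳.p.obj ξ = U :=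
      (G.w_obj ξ).symm.trans ((IsHomLift.domain_eq 𝒴.p (𝟙 (𝒴.p.obj y.1)) e.hom).trans y.2)
    have he' : 𝒴.p.IsHomLift (𝟙 U) e.hom := by rw [y.2] at he; exact he
    have he'' : 𝒴.p.IsHomLift (𝟙 U) e.inv := IsHomLift.lift_id_inv _ _ _
    exact ⟨⟨ξ, hξ⟩, ⟨⟨⟨e.hom, he'⟩, ⟨e.inv, he''⟩, Subtype.ext e.hom_inv_id, Subtype.ext e.inv_hom_id⟩⟩⟩

theorem isEquivalence_fiber_of_isEquivOver {G : 𝒳 ⥤ᵇ 𝒴} (hG : FibCat.IsEquivOver G) (U : C) :
    (FibCat.fiberFunctor G U).IsEquivalence := by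
  have := Equiv.isEquivalence hG
  exact { faithful := faithful_fiber G U, full := full_fiber G U, essSurj := essSurj_fiber_of_isEquivOver hG U }

/-- a fully faithful functor over `C` which is fibrewise essentially surjective is an equivalence over `C` -/
theorem isEquivOver_of_essSurj_fiber (G : 𝒳 ⥤ᵇ 𝒴) [G.toFunctor.Full] [G.toFunctor.Faithful]
    (h : ∀ U : C, (FibCat.fiberFunctor G U).EssSurj) : FibCat.IsEquivOver G := by
  refine Equiv.isEquivOver_of G (fun η => ?_)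
  obtain ⟨ξ, ⟨e⟩⟩ := (h (𝒴.p.obj η)).mem_essImage ⟨η, rfl⟩
  exact ⟨ξ.1, Fiber.fiberInclusion.mapIso e, e.hom.2⟩

/-- transport of isomorphisms of the base in a fibred category -/
theorem transportable_of_isFibered [𝒳.p.IsFibered] ⦃T S : C⦄ (α : T ≅ S) (ξ : 𝒳.obj) (hξ : 𝒳.p.obj ξ = T) :
    ∃ (ξ' : 𝒳.obj) (e : ξ ≅ ξ'), 𝒳.p.IsHomLift α.hom e.hom := by
  obtain ⟨ξ', φ, hφ⟩ := Cart.exists_isStronglyCartesian (p := 𝒳.p) α.inv hξ
  have : IsIso φ := IsStronglyCartesian.isIso_of_base_isIso 𝒳.p α.inv φ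
  have h1 : 𝒳.p.IsHomLift (α.symm).hom (asIso φ).hom := (inferInstance : 𝒳.p.IsHomLift α.inv φ)
  have h2 : 𝒳.p.IsHomLift (α.symm).inv (asIso φ).inv := inferInstance
  exact ⟨ξ', (asIso φ).symm, h2⟩

/-- between fibred categories, an equivalence of the underlying categories is an equivalence over the base -/
theorem isEquivOver_iff_isEquivalence_of_isFibered [𝒳.p.IsFibered] (G : 𝒳 ⥤ᵇ 𝒴) :
    FibCat.IsEquivOver G ↔ G.toFunctor.IsEquivalence :=
  ⟨Equiv.isEquivalence, fun _ => Equiv.isEquivOver_of_isEquivalence transportable_of_isFibered G⟩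

theorem isEquivalence_iff_fiber (G : 𝒳 ⥤ᵇ 𝒴) (h𝒳 : FibCat.IsFibGrpd 𝒳.p) (h𝒴 : FibCat.IsFibGrpd 𝒴.p) :
    G.toFunctor.IsEquivalence ↔ ∀ U : C, (FibCat.fiberFunctor G U).IsEquivalence := by
  have := Cart.IsFibGrpd.isFibered _ h𝒳
  constructor
  · intro h U
    exact isEquivalence_fiber_of_isEquivOver ((isEquivOver_iff_isEquivalence_of_isFibered G).2 h) U
  · intro h
    have h1 : G.toFunctor.Full := full_of_fiber G h𝒳 h𝒴 (fun U => (h U).full)
    have h2 : G.toFunctor.Faithful := faithful_of_fiber G h𝒳 h𝒴 (fun U => (h U).faithful)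
    exact Equiv.isEquivalence (isEquivOver_of_essSurj_fiber G (fun U => (h U).essSurj))

theorem isEquivOver_iff_fiber (G : 𝒳 ⥤ᵇ 𝒴) (h𝒳 : FibCat.IsFibGrpd 𝒳.p) (h𝒴 : FibCat.IsFibGrpd 𝒴.p) :
    FibCat.IsEquivOver G ↔ ∀ U : C, (FibCat.fiberFunctor G U).IsEquivalence := by
  have := Cart.IsFibGrpd.isFibered _ h𝒳
  rw [isEquivOver_iff_isEquivalence_of_isFibered, isEquivalence_iff_fiber G h𝒳 h𝒴]

section Diag

theorem diag_obj_fst (G : 𝒳 ⥤ᵇ 𝒴) (x : 𝒳.obj) : ((FibCat.diag G).obj x).obj.fst = x := rfl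

theorem faithful_diag (G : 𝒳 ⥤ᵇ 𝒴) : (FibCat.diag G).toFunctor.Faithful where
  map_injective {x y} f g h := by
    exact congrArg (fun k => k.hom.fst) h

theorem isEquivOver_diag_of_full_faithful (G : 𝒳 ⥤ᵇ 𝒴) [G.toFunctor.Full] [G.toFunctor.Faithful] :
    FibCat.IsEquivOver (FibCat.diag G) := by
  have h1 := faithful_diag G
  have h2 : (FibCat.diag G).toFunctor.Full := ⟨fun {x y} φ => by
    have hw := Fp.hom_w φ
    refine ⟨φ.hom.fst, Fp.hom_ext' rfl ?_⟩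
    apply G.toFunctor.map_injective
    have e1 : ((FibCat.diag G).obj x).obj.iso.hom = 𝟙 (G.obj x) := rfl
    have e2 : ((FibCat.diag G).obj y).obj.iso.hom = 𝟙 (G.obj y) := rfl
    rw [e1, e2] at hw
    exact (Category.comp_id _).symm.trans (hw.trans (Category.id_comp _))⟩
  refine Equiv.isEquivOver_of _ (fun η => ?_)
  have hη : 𝒴.p.IsHomLift (𝟙 (𝒳.p.obj η.obj.fst)) η.obj.iso.hom := η.property
  let j : η.obj.fst ≅ η.obj.snd := G.toFunctor.preimageIso η.obj.iso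
  have hj : G.map j.hom = η.obj.iso.hom := G.toFunctor.map_preimage _
  have hj' : G.map j.inv = η.obj.iso.inv := G.toFunctor.map_preimage _
  refine ⟨η.obj.fst, ⟨Fp.mkHom (𝟙 η.obj.fst) j.hom ?_, Fp.mkHom (𝟙 η.obj.fst) j.inv ?_, ?_, ?_⟩, ?_⟩
  · change G.map (𝟙 η.obj.fst) ≫ η.obj.iso.hom = 𝟙 (G.obj η.obj.fst) ≫ G.map j.hom
    rw [hj, G.toFunctor.map_id]
  · change G.map (𝟙 η.obj.fst) ≫ 𝟙 (G.obj η.obj.fst) = η.obj.iso.hom ≫ G.map j.inv
    rw [hj', G.toFunctor.map_id, Iso.hom_inv_id, Category.comp_id]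
  · exact Fp.hom_ext' (Category.comp_id _) j.hom_inv_id
  · exact Fp.hom_ext' (Category.comp_id _) j.inv_hom_id
  · refine (Fp.isHomLift_fst_iff _ _).1 ?_
    exact IsHomLift.id rfl

theorem faithful_of_isEquivOver_diag (G : 𝒳 ⥤ᵇ 𝒴) (h : FibCat.IsEquivOver (FibCat.diag G)) :
    G.toFunctor.Faithful where
  map_injective {x y} f g hfg := by
    have h1 := Equiv.isEquivalence h
    have hw : G.map f ≫ ((FibCat.diag G).obj y).obj.iso.hom = ((FibCat.diag G).obj x).obj.iso.hom ≫ G.map g := by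
      have e1 : ((FibCat.diag G).obj x).obj.iso.hom = 𝟙 (G.obj x) := rfl
      have e2 : ((FibCat.diag G).obj y).obj.iso.hom = 𝟙 (G.obj y) := rfl
      rw [e1, e2, hfg]
      exact (Category.comp_id _).trans (Category.id_comp _).symm
    obtain ⟨k, hk⟩ := (FibCat.diag G).toFunctor.map_surjective (X := x) (Y := y)
      (Fp.mkHom (x := (FibCat.diag G).obj x) (y := (FibCat.diag G).obj y) f g hw)
    have e₁ : k = f := congrArg (fun m => m.hom.fst) hk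
    have e₂ : k = g := congrArg (fun m => m.hom.snd) hk
    rw [← e₁, ← e₂]

theorem full_of_isEquivOver_diag (G : 𝒳 ⥤ᵇ 𝒴) (h𝒳 : FibCat.IsFibGrpd 𝒳.p) (h𝒴 : FibCat.IsFibGrpd 𝒴.p)
    (h : FibCat.IsEquivOver (FibCat.diag G)) :
    G.toFunctor.Full where
  map_surjective {x y} ψ := by
    obtain ⟨f, hf⟩ := exists_isHomLift G ψ
    obtain ⟨x', φ, hφ⟩ := h𝒳.exists_lift f
    have h3 : 𝒴.p.IsStronglyCartesian f (G.map φ) := Cart.IsFibGrpd.isStronglyCartesian_of_isHomLift h𝒴 _ _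
    let χ := IsCartesian.map 𝒴.p f (G.map φ) ψ
    have e : χ ≫ G.map φ = ψ := IsCartesian.fac _ _ _ _
    have hχ : 𝒴.p.IsHomLift (𝟙 (𝒳.p.obj x)) χ := inferInstance
    have : IsIso χ := Cart.IsFibGrpd.isIso h𝒴 (𝟙 (𝒳.p.obj x)) χ
    let η : (FibCat.fp G G).obj := Fp.mkObj x x' (asIso χ) hχ
    obtain ⟨ξ, i, hi⟩ := Equiv.essSurjOver h η
    let a : ξ ⟶ x := i.hom.hom.fst
    let b : ξ ⟶ x' := i.hom.hom.snd
    let c : x ⟶ ξ := i.inv.hom.fst
    have hw' : G.map a ≫ χ = G.map b := (Fp.hom_w i.hom).trans (Category.id_comp (G.map b))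
    have k1 : c ≫ a = 𝟙 x := congrArg (fun m => m.hom.fst) i.inv_hom_id
    have k2 : χ = G.map (c ≫ b) := by
      rw [Functor.map_comp, ← hw', ← Category.assoc, ← Functor.map_comp, k1, Functor.map_id, Category.id_comp]
    exact ⟨(c ≫ b) ≫ φ, by rw [Functor.map_comp, ← k2, e]⟩

end Diag

end K159.Fibre
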