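import Groth.Agent.FibCat.K159.Cart

/-!
2-fibre products over the base: lifts, (strongly) cartesian morphisms, fibredness.
-/

set_option autoImplicit false
set_option backward.isDefEq.respectTransparency false
set_option backward.isDefEq.respectTransparency.types false

universe v₄ u₄ v₃ u₃ v₂ u₂ v u

open CategoryTheory CategoryTheory.Functor CategoryTheory.Limits

namespace K159.Fp

variable {C : Type u} [Category.{v} C]
variable {𝒳 : BasedCategory.{v₂, u₂} C} {𝒴 : BasedCategory.{v₃, u₃} C} {𝒮 : BasedCategory.{v₄, u₄} C}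

section General

variable {F : 𝒳 ⥤ᵇ 𝒮} {G : 𝒴 ⥤ᵇ 𝒮}

theorem isHomLift_fst_iff {x y : (FibCat.fp F G).obj} (φ : x ⟶ y) {R S : C} (f : R ⟶ S) :
    𝒳.p.IsHomLift f φ.hom.fst ↔ (FibCat.fp F G).p.IsHomLift f φ :=
  BasedFunctor.isHomLift_iff (FibCat.fpFst F G) f φ

theorem isHomLift_snd_iff {x y : (FibCat.fp F G).obj} (φ : x ⟶ y) {R S : C} (f : R ⟶ S) :
    𝒴.p.IsHomLift f φ.hom.snd ↔ (FibCat.fp F G).p.IsHomLift f φ :=
  BasedFunctor.isHomLift_iff (FibCat.fpSnd F G) f φ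

theorem hom_ext' {x y : (FibCat.fp F G).obj} {φ ψ : x ⟶ y} (h₁ : φ.hom.fst = ψ.hom.fst)
    (h₂ : φ.hom.snd = ψ.hom.snd) : φ = ψ := by
  apply ObjectProperty.hom_ext; apply CategoricalPullback.hom_ext <;> assumption

theorem p_snd (x : (FibCat.fp F G).obj) : 𝒴.p.obj x.obj.snd = 𝒳.p.obj x.obj.fst := by
  have hx : 𝒮.p.IsHomLift (𝟙 (𝒳.p.obj x.obj.fst)) x.obj.iso.hom := x.property
  exact (G.w_obj x.obj.snd).symm.trans (IsHomLift.codomain_eq 𝒮.p (𝟙 (𝒳.p.obj x.obj.fst)) x.obj.iso.hom)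

/-- constructor for objects of the 2-fibre product -/
def mkObj (a : 𝒳.obj) (b : 𝒴.obj) (i : F.obj a ≅ G.obj b) (hi : 𝒮.p.IsHomLift (𝟙 (𝒳.p.obj a)) i.hom) :
    (FibCat.fp F G).obj :=
  ⟨⟨a, b, i⟩, hi⟩

/-- constructor for morphisms of the 2-fibre product -/
def mkHom {x y : (FibCat.fp F G).obj} (u : x.obj.fst ⟶ y.obj.fst) (w : x.obj.snd ⟶ y.obj.snd)
    (h : F.map u ≫ y.obj.iso.hom = x.obj.iso.hom ≫ G.map w) : x ⟶ y :=
  ObjectProperty.homMk ⟨u, w, h⟩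

@[simp] theorem mkHom_fst {x y : (FibCat.fp F G).obj} (u : x.obj.fst ⟶ y.obj.fst) (w : x.obj.snd ⟶ y.obj.snd)
    (h : F.map u ≫ y.obj.iso.hom = x.obj.iso.hom ≫ G.map w) : (mkHom u w h).hom.fst = u := rfl

@[simp] theorem mkHom_snd {x y : (FibCat.fp F G).obj} (u : x.obj.fst ⟶ y.obj.fst) (w : x.obj.snd ⟶ y.obj.snd)
    (h : F.map u ≫ y.obj.iso.hom = x.obj.iso.hom ≫ G.map w) : (mkHom u w h).hom.snd = w := rfl

theorem hom_w {x y : (FibCat.fp F G).obj} (φ : x ⟶ y) :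
    F.map φ.hom.fst ≫ y.obj.iso.hom = x.obj.iso.hom ≫ G.map φ.hom.snd := φ.hom.w

theorem comp_fst {x y z : (FibCat.fp F G).obj} (φ : x ⟶ y) (ψ : y ⟶ z) :
    (φ ≫ ψ).hom.fst = φ.hom.fst ≫ ψ.hom.fst := rfl

theorem comp_snd {x y z : (FibCat.fp F G).obj} (φ : x ⟶ y) (ψ : y ⟶ z) :
    (φ ≫ ψ).hom.snd = φ.hom.snd ≫ ψ.hom.snd := rfl

/-- a morphism of the 2-fibre product with strongly cartesian components (and image) is strongly cartesian -/
theorem isStronglyCartesian {x y : (FibCat.fp F G).obj} (φ : x ⟶ y) {R S : C} (f : R ⟶ S)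
    (h₁ : 𝒳.p.IsStronglyCartesian f φ.hom.fst) (h₂ : 𝒴.p.IsStronglyCartesian f φ.hom.snd)
    (h₃ : 𝒮.p.IsStronglyCartesian f (G.map φ.hom.snd)) : (FibCat.fp F G).p.IsStronglyCartesian f φ where
  toIsHomLift := (isHomLift_fst_iff φ f).1 inferInstance
  universal_property' {z} g ψ hψ := by
    have k₁ : 𝒳.p.IsHomLift (g ≫ f) ψ.hom.fst := (isHomLift_fst_iff ψ _).2 hψ
    have k₂ : 𝒴.p.IsHomLift (g ≫ f) ψ.hom.snd := (isHomLift_snd_iff ψ _).2 hψ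
    obtain ⟨χ₁, ⟨a₁, b₁⟩, c₁⟩ := IsStronglyCartesian.universal_property 𝒳.p f φ.hom.fst g _ rfl ψ.hom.fst
    obtain ⟨χ₂, ⟨a₂, b₂⟩, c₂⟩ := IsStronglyCartesian.universal_property 𝒴.p f φ.hom.snd g _ rfl ψ.hom.snd
    have hz : 𝒮.p.IsHomLift (𝟙 (𝒳.p.obj z.obj.fst)) z.obj.iso.hom := z.property
    have hx : 𝒮.p.IsHomLift (𝟙 (𝒳.p.obj x.obj.fst)) x.obj.iso.hom := x.property
    have hR : 𝒳.p.obj x.obj.fst = R := IsHomLift.domain_eq 𝒳.p f φ.hom.fst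
    subst hR
    have hw : F.map χ₁ ≫ x.obj.iso.hom = z.obj.iso.hom ≫ G.map χ₂ := by
      have m₁ : 𝒮.p.IsHomLift g (F.map χ₁) := BasedFunctor.preserves_isHomLift F _ _
      have m₂ : 𝒮.p.IsHomLift g (G.map χ₂) := BasedFunctor.preserves_isHomLift G _ _
      change 𝒳.p.obj z.obj.fst ⟶ 𝒳.p.obj x.obj.fst at g
      have m₃ : 𝒮.p.IsHomLift g (F.map χ₁ ≫ x.obj.iso.hom) := inferInstance
      have m₄ : 𝒮.p.IsHomLift g (z.obj.iso.hom ≫ G.map χ₂) := IsHomLift.comp_lift_id_left 𝒮.p _ _ _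
      apply IsStronglyCartesian.ext 𝒮.p f (G.map φ.hom.snd) g
      rw [Category.assoc, ← hom_w φ, ← Functor.map_comp_assoc, b₁, Category.assoc, ← Functor.map_comp, b₂, hom_w ψ]
    refine ⟨mkHom χ₁ χ₂ hw, ⟨(isHomLift_fst_iff _ _).1 a₁, hom_ext' b₁ b₂⟩, ?_⟩
    rintro τ ⟨d₁, d₂⟩
    refine hom_ext' (c₁ _ ⟨(isHomLift_fst_iff _ _).2 d₁, ?_⟩) (c₂ _ ⟨(isHomLift_snd_iff _ _).2 d₁, ?_⟩)
    · rw [← comp_fst, d₂]
    · rw [← comp_snd, d₂]

/-- a morphism of the 2-fibre product with cartesian components (and image) is cartesian -/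
theorem isCartesian {x y : (FibCat.fp F G).obj} (φ : x ⟶ y) {R S : C} (f : R ⟶ S)
    (h₁ : 𝒳.p.IsCartesian f φ.hom.fst) (h₂ : 𝒴.p.IsCartesian f φ.hom.snd)
    (h₃ : 𝒮.p.IsCartesian f (G.map φ.hom.snd)) : (FibCat.fp F G).p.IsCartesian f φ where
  toIsHomLift := (isHomLift_fst_iff φ f).1 inferInstance
  universal_property {z} ψ hψ := by
    have k₁ : 𝒳.p.IsHomLift f ψ.hom.fst := (isHomLift_fst_iff ψ _).2 hψ
    have k₂ : 𝒴.p.IsHomLift f ψ.hom.snd := (isHomLift_snd_iff ψ _).2 hψ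
    obtain ⟨χ₁, ⟨a₁, b₁⟩, c₁⟩ := IsCartesian.universal_property (p := 𝒳.p) (f := f) (φ := φ.hom.fst) ψ.hom.fst
    obtain ⟨χ₂, ⟨a₂, b₂⟩, c₂⟩ := IsCartesian.universal_property (p := 𝒴.p) (f := f) (φ := φ.hom.snd) ψ.hom.snd
    have hz : 𝒮.p.IsHomLift (𝟙 (𝒳.p.obj z.obj.fst)) z.obj.iso.hom := z.property
    have hx : 𝒮.p.IsHomLift (𝟙 (𝒳.p.obj x.obj.fst)) x.obj.iso.hom := x.property
    have hR : 𝒳.p.obj x.obj.fst = R := IsHomLift.domain_eq 𝒳.p f φ.hom.fst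
    have hR' : 𝒳.p.obj z.obj.fst = R := IsHomLift.domain_eq 𝒳.p f ψ.hom.fst
    have hw : F.map χ₁ ≫ x.obj.iso.hom = z.obj.iso.hom ≫ G.map χ₂ := by
      have m₁ : 𝒮.p.IsHomLift (𝟙 R) (F.map χ₁) := BasedFunctor.preserves_isHomLift F _ _
      have m₂ : 𝒮.p.IsHomLift (𝟙 R) (G.map χ₂) := BasedFunctor.preserves_isHomLift G _ _
      rw [hR] at hx
      rw [hR'] at hz
      have m₃ : 𝒮.p.IsHomLift (𝟙 R) (F.map χ₁ ≫ x.obj.iso.hom) := inferInstance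
      have m₄ : 𝒮.p.IsHomLift (𝟙 R) (z.obj.iso.hom ≫ G.map χ₂) := IsHomLift.comp_lift_id_left 𝒮.p _ _ _
      apply IsCartesian.ext 𝒮.p f (G.map φ.hom.snd)
      rw [Category.assoc, ← hom_w φ, ← Functor.map_comp_assoc, b₁, Category.assoc, ← Functor.map_comp, b₂, hom_w ψ]
    refine ⟨mkHom χ₁ χ₂ hw, ⟨(isHomLift_fst_iff _ _).1 a₁, hom_ext' b₁ b₂⟩, ?_⟩
    rintro τ ⟨d₁, d₂⟩
    refine hom_ext' (c₁ _ ⟨(isHomLift_fst_iff _ _).2 d₁, ?_⟩) (c₂ _ ⟨(isHomLift_snd_iff _ _).2 d₁, ?_⟩)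
    · rw [← comp_fst, d₂]
    · rw [← comp_snd, d₂]

/-- lifts in the 2-fibre product: given cartesian lifts of both components with cartesian images -/
theorem exists_lift {R : C} (x : (FibCat.fp F G).obj) (f : R ⟶ 𝒳.p.obj x.obj.fst) {a : 𝒳.obj} {b : 𝒴.obj}
    (u : a ⟶ x.obj.fst) (w : b ⟶ x.obj.snd) [𝒳.p.IsHomLift f u] [𝒴.p.IsHomLift f w]
    [𝒮.p.IsCartesian f (F.map u)] [𝒮.p.IsCartesian f (G.map w)] :
    ∃ (y : (FibCat.fp F G).obj) (φ : y ⟶ x) (e₁ : y.obj.fst = a) (e₂ : y.obj.snd = b),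
      φ.hom.fst = eqToHom e₁ ≫ u ∧ φ.hom.snd = eqToHom e₂ ≫ w ∧
      (FibCat.fp F G).p.IsHomLift f φ := by
  have hx : 𝒮.p.IsHomLift (𝟙 (𝒳.p.obj x.obj.fst)) x.obj.iso.hom := x.property
  have h1 : 𝒮.p.IsCartesian f (F.map u ≫ x.obj.iso.hom) := inferInstance
  let j : F.obj a ≅ G.obj b := IsCartesian.domainUniqueUpToIso 𝒮.p f (G.map w) (F.map u ≫ x.obj.iso.hom)
  have hj : 𝒮.p.IsHomLift (𝟙 R) j.hom := IsCartesian.domainUniqueUpToIso_inv_isHomLift _ _ _ _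
  have hR : 𝒳.p.obj a = R := IsHomLift.domain_eq 𝒳.p f u
  have hj' : 𝒮.p.IsHomLift (𝟙 (𝒳.p.obj a)) j.hom := by rw [hR]; exact hj
  refine ⟨mkObj a b j hj', mkHom u w ?_, rfl, rfl, (Category.id_comp u).symm, (Category.id_comp w).symm, ?_⟩
  · exact (IsCartesian.fac 𝒮.p f (G.map w) (F.map u ≫ x.obj.iso.hom)).symm
  · exact (isHomLift_fst_iff _ _).1 (by simpa using (inferInstance : 𝒳.p.IsHomLift f u))

theorem isFibered [𝒳.p.IsFibered] [𝒴.p.IsFibered]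
    (hF : ∀ {R S : C} (f : R ⟶ S) {a b : 𝒳.obj} (φ : a ⟶ b), 𝒳.p.IsStronglyCartesian f φ → 𝒮.p.IsStronglyCartesian f (F.map φ))
    (hG : ∀ {R S : C} (f : R ⟶ S) {a b : 𝒴.obj} (φ : a ⟶ b), 𝒴.p.IsStronglyCartesian f φ → 𝒮.p.IsStronglyCartesian f (G.map φ)) :
    (FibCat.fp F G).p.IsFibered := by
  refine IsFibered.of_exists_isStronglyCartesian (fun x R f => ?_)
  change R ⟶ 𝒳.p.obj x.obj.fst at f
  obtain ⟨a, u, hu⟩ := Cart.exists_isStronglyCartesian (p := 𝒳.p) f (x := x.obj.fst) rfl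
  obtain ⟨b, w, hw⟩ := Cart.exists_isStronglyCartesian (p := 𝒴.p) f (x := x.obj.snd) (p_snd x)
  have hu' := hF f u hu
  have hw' := hG f w hw
  obtain ⟨y, φ, e₁, e₂, h₁, h₂, h₃⟩ := exists_lift x f u w
  subst e₁
  subst e₂
  rw [eqToHom_refl, Category.id_comp] at h₁ h₂
  subst h₁
  subst h₂
  exact ⟨y, φ, isStronglyCartesian φ f hu hw hw'⟩

theorem isFibGrpd (h𝒳 : FibCat.IsFibGrpd 𝒳.p) (h𝒴 : FibCat.IsFibGrpd 𝒴.p) (h𝒮 : FibCat.IsFibGrpd 𝒮.p) :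
    FibCat.IsFibGrpd (FibCat.fp F G).p where
  exists_lift {x R} f := by
    change R ⟶ 𝒳.p.obj x.obj.fst at f
    have := Cart.IsFibGrpd.isFibered _ h𝒳
    have := Cart.IsFibGrpd.isFibered _ h𝒴
    obtain ⟨a, u, hu⟩ := Cart.exists_isStronglyCartesian (p := 𝒳.p) f (x := x.obj.fst) rfl
    obtain ⟨b, w, hw⟩ := Cart.exists_isStronglyCartesian (p := 𝒴.p) f (x := x.obj.snd) (p_snd x)
    have hu' : 𝒮.p.IsStronglyCartesian f (F.map u) := Cart.IsFibGrpd.isStronglyCartesian_of_isHomLift h𝒮 _ _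
    have hw' : 𝒮.p.IsStronglyCartesian f (G.map w) := Cart.IsFibGrpd.isStronglyCartesian_of_isHomLift h𝒮 _ _
    obtain ⟨y, φ, e₁, e₂, h₁, h₂, h₃⟩ := exists_lift x f u w
    exact ⟨y, φ, h₃⟩
  isStronglyCartesian {y x} φ := by
    have h0 : (FibCat.fp F G).p.IsHomLift ((FibCat.fp F G).p.map φ) φ := inferInstance
    have k₁ := (isHomLift_fst_iff φ _).2 h0
    have k₂ := (isHomLift_snd_iff φ _).2 h0
    exact isStronglyCartesian φ _ (Cart.IsFibGrpd.isStronglyCartesian_of_isHomLift h𝒳 _ _)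
      (Cart.IsFibGrpd.isStronglyCartesian_of_isHomLift h𝒴 _ _)
      (Cart.IsFibGrpd.isStronglyCartesian_of_isHomLift h𝒮 _ _)

end General

section Prod

/-! ### Products over the base -/

variable {A : BasedCategory.{v₂, u₂} C} {B : BasedCategory.{v₃, u₃} C}

/-- lifts through the identity functor are determined -/
theorem eq_of_lift_self {R S : C} {f : R ⟶ S} {a b : C} {g₁ g₂ : a ⟶ b}
    (h₁ : (𝟭 C).IsHomLift f g₁) (h₂ : (𝟭 C).IsHomLift f g₂) : g₁ = g₂ := by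
  have e₁ := IsHomLift.fac' (𝟭 C) f g₁
  have e₂ := IsHomLift.fac' (𝟭 C) f g₂
  exact e₁.trans e₂.symm

/-- every lift through the identity functor is cartesian -/
theorem isStronglyCartesian_self {R S : C} {f : R ⟶ S} {a b : C} {g : a ⟶ b}
    (h : (𝟭 C).IsHomLift f g) : (𝟭 C).IsStronglyCartesian f g where
  universal_property' {c} k ψ hψ := by
    have ha : a = R := IsHomLift.domain_eq (𝟭 C) f g
    have hb : b = S := IsHomLift.codomain_eq (𝟭 C) f g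
    subst ha
    subst hb
    have e1 : g = f := (IsHomLift.eq_of_isHomLift (𝟭 C) f g).symm
    subst e1
    have e2 : ψ = k ≫ g := (IsHomLift.eq_of_isHomLift (𝟭 C) (k ≫ g) ψ).symm
    subst e2
    refine ⟨k, ⟨IsHomLift.map (𝟭 C) k, rfl⟩, ?_⟩
    rintro τ ⟨h1, h2⟩
    exact (IsHomLift.eq_of_isHomLift (𝟭 C) k τ).symm

/-- objects of the product over the base from a pair of objects over one object -/
def prodObj (a : A.obj) (b : B.obj) (h : A.p.obj a = B.p.obj b) :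
    (FibCat.fp (FibCat.toSelf A) (FibCat.toSelf B)).obj :=
  mkObj a b (eqToIso h) (by
    change (𝟭 C).IsHomLift (𝟙 (A.p.obj a)) (eqToHom h)
    exact IsHomLift.eqToHom_domain_lift_id h rfl)

/-- morphisms of the product over the base from pairs of morphisms lifting one morphism -/
def prodHom {x y : (FibCat.fp (FibCat.toSelf A) (FibCat.toSelf B)).obj} (u : x.obj.fst ⟶ y.obj.fst)
    (w : x.obj.snd ⟶ y.obj.snd) {R S : C} (f : R ⟶ S) (hu : A.p.IsHomLift f u) (hw : B.p.IsHomLift f w) :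
    x ⟶ y :=
  mkHom u w (by
    have h1 : (FibCat.selfOver C).p.IsHomLift f ((FibCat.toSelf A).map u) := BasedFunctor.preserves_isHomLift _ _ _
    have h2 : (FibCat.selfOver C).p.IsHomLift f ((FibCat.toSelf B).map w) := BasedFunctor.preserves_isHomLift _ _ _
    have hx : (FibCat.selfOver C).p.IsHomLift (𝟙 (A.p.obj x.obj.fst)) x.obj.iso.hom := x.property
    have hy : (FibCat.selfOver C).p.IsHomLift (𝟙 (A.p.obj y.obj.fst)) y.obj.iso.hom := y.property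
    rw [IsHomLift.domain_eq A.p f u] at hx
    rw [IsHomLift.codomain_eq A.p f u] at hy
    have h3 : (FibCat.selfOver C).p.IsHomLift f ((FibCat.toSelf A).map u ≫ y.obj.iso.hom) := inferInstance
    have h4 : (FibCat.selfOver C).p.IsHomLift f (x.obj.iso.hom ≫ (FibCat.toSelf B).map w) := inferInstance
    exact eq_of_lift_self h3 h4)

theorem prodHom_fst {x y : (FibCat.fp (FibCat.toSelf A) (FibCat.toSelf B)).obj} (u : x.obj.fst ⟶ y.obj.fst)
    (w : x.obj.snd ⟶ y.obj.snd) {R S : C} (f : R ⟶ S) (hu : A.p.IsHomLift f u) (hw : B.p.IsHomLift f w) :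
    (prodHom u w f hu hw).hom.fst = u := rfl

theorem prodHom_snd {x y : (FibCat.fp (FibCat.toSelf A) (FibCat.toSelf B)).obj} (u : x.obj.fst ⟶ y.obj.fst)
    (w : x.obj.snd ⟶ y.obj.snd) {R S : C} (f : R ⟶ S) (hu : A.p.IsHomLift f u) (hw : B.p.IsHomLift f w) :
    (prodHom u w f hu hw).hom.snd = w := rfl

theorem isCartesian_prod_iff {x y : (FibCat.fp (FibCat.toSelf A) (FibCat.toSelf B)).obj} (φ : x ⟶ y)
    {R S : C} (f : R ⟶ S) :
    (FibCat.fp (FibCat.toSelf A) (FibCat.toSelf B)).p.IsCartesian f φ ↔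
      A.p.IsCartesian f φ.hom.fst ∧ B.p.IsCartesian f φ.hom.snd := by
  constructor
  · intro h
    have l₁ : A.p.IsHomLift f φ.hom.fst := (isHomLift_fst_iff φ f).2 inferInstance
    have l₂ : B.p.IsHomLift f φ.hom.snd := (isHomLift_snd_iff φ f).2 inferInstance
    constructor
    · refine ⟨fun {a'} ψ hψ => ?_⟩
      let z := prodObj a' x.obj.snd ((IsHomLift.domain_eq A.p f ψ).trans (IsHomLift.domain_eq B.p f φ.hom.snd).symm)
      let θ : z ⟶ y := prodHom (x := z) (y := y) ψ φ.hom.snd f hψ l₂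
      have hθ : (FibCat.fp (FibCat.toSelf A) (FibCat.toSelf B)).p.IsHomLift f θ := (isHomLift_fst_iff _ _).1 hψ
      obtain ⟨χ, ⟨c₁, c₂⟩, c₃⟩ := h.universal_property θ
      refine ⟨χ.hom.fst, ⟨(isHomLift_fst_iff _ _).2 c₁, ?_⟩, ?_⟩
      · rw [← comp_fst, c₂]; rfl
      · rintro τ ⟨t₁, t₂⟩
        have hid : B.p.IsHomLift (𝟙 R) (𝟙 x.obj.snd) := IsHomLift.id (IsHomLift.domain_eq B.p f φ.hom.snd)
        have := c₃ (prodHom (x := z) (y := x) τ (𝟙 x.obj.snd) (𝟙 R) t₁ hid)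
          ⟨(isHomLift_fst_iff _ _).1 t₁, hom_ext' t₂ (Category.id_comp _)⟩
        rw [← this]; rfl
    · refine ⟨fun {a'} ψ hψ => ?_⟩
      let z := prodObj x.obj.fst a' ((IsHomLift.domain_eq A.p f φ.hom.fst).trans (IsHomLift.domain_eq B.p f ψ).symm)
      let θ : z ⟶ y := prodHom (x := z) (y := y) φ.hom.fst ψ f l₁ hψ
      have hθ : (FibCat.fp (FibCat.toSelf A) (FibCat.toSelf B)).p.IsHomLift f θ := (isHomLift_fst_iff _ _).1 l₁
      obtain ⟨χ, ⟨c₁, c₂⟩, c₃⟩ := h.universal_property θ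
      refine ⟨χ.hom.snd, ⟨(isHomLift_snd_iff _ _).2 c₁, ?_⟩, ?_⟩
      · rw [← comp_snd, c₂]; rfl
      · rintro τ ⟨t₁, t₂⟩
        have hid : A.p.IsHomLift (𝟙 R) (𝟙 x.obj.fst) := IsHomLift.id (IsHomLift.domain_eq A.p f φ.hom.fst)
        have := c₃ (prodHom (x := z) (y := x) (𝟙 x.obj.fst) τ (𝟙 R) hid t₁)
          ⟨(isHomLift_fst_iff _ _).1 hid, hom_ext' (Category.id_comp _) t₂⟩
        rw [← this]; rfl
  · rintro ⟨h₁, h₂⟩
    have l₃ : (FibCat.selfOver C).p.IsHomLift f ((FibCat.toSelf B).map φ.hom.snd) := BasedFunctor.preserves_isHomLift _ _ _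
    have l₄ : (FibCat.selfOver C).p.IsStronglyCartesian f ((FibCat.toSelf B).map φ.hom.snd) := isStronglyCartesian_self l₃
    exact isCartesian φ f h₁ h₂ inferInstance

theorem isPreFibered_prod [A.p.IsPreFibered] [B.p.IsPreFibered] :
    (FibCat.fp (FibCat.toSelf A) (FibCat.toSelf B)).p.IsPreFibered where
  exists_isCartesian' {x R} f := by
    change R ⟶ A.p.obj x.obj.fst at f
    obtain ⟨a, u, hu⟩ := IsPreFibered.exists_isCartesian A.p (a := x.obj.fst) rfl f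
    obtain ⟨b, w, hw⟩ := IsPreFibered.exists_isCartesian B.p (a := x.obj.snd) (p_snd x) f
    refine ⟨prodObj a b ((IsHomLift.domain_eq A.p f u).trans (IsHomLift.domain_eq B.p f w).symm),
      prodHom u w f inferInstance inferInstance, ?_⟩
    exact (isCartesian_prod_iff _ _).2 ⟨hu, hw⟩

theorem isFibered_prod [A.p.IsFibered] [B.p.IsFibered] :
    (FibCat.fp (FibCat.toSelf A) (FibCat.toSelf B)).p.IsFibered := by
  apply isFibered
  · intro R S f a b φ h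
    have l₃ : (FibCat.selfOver C).p.IsHomLift f ((FibCat.toSelf A).map φ) := BasedFunctor.preserves_isHomLift _ _ _
    exact isStronglyCartesian_self l₃
  · intro R S f a b φ h
    have l₃ : (FibCat.selfOver C).p.IsHomLift f ((FibCat.toSelf B).map φ) := BasedFunctor.preserves_isHomLift _ _ _
    exact isStronglyCartesian_self l₃

end Prod

end K159.Fp
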