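import Groth.Agent.FibCat.K159.Fibre

/-!
The inertia of a functor over the base.
-/

set_option autoImplicit false
set_option backward.isDefEq.respectTransparency false
set_option backward.isDefEq.respectTransparency.types false

universe v₄ u₄ v₃ u₃ v₂ u₂ v u

open CategoryTheory CategoryTheory.Functor CategoryTheory.Limits

namespace K159.Inertia

variable {C : Type u} [Category.{v} C]
variable {𝒳 : BasedCategory.{v₂, u₂} C} {𝒴 : BasedCategory.{v₃, u₃} C}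

theorem isHomLift_hom_iff {F : 𝒳 ⥤ᵇ 𝒴} {x y : (FibCat.inertia F).obj} (φ : x ⟶ y) {R S : C} (f : R ⟶ S) :
    𝒳.p.IsHomLift f φ.hom ↔ (FibCat.inertia F).p.IsHomLift f φ :=
  BasedFunctor.isHomLift_iff (FibCat.inertiaToBase F) f φ

theorem isHomLift_aut {F : 𝒳 ⥤ᵇ 𝒴} (x : (FibCat.inertia F).obj) :
    𝒳.p.IsHomLift (𝟙 (𝒳.p.obj x.pt)) x.aut.hom := by
  rw [← BasedFunctor.isHomLift_iff F, x.map_aut]
  infer_instance

/-- a morphism of the inertia which is strongly cartesian in `𝒳` is strongly cartesian -/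
theorem isStronglyCartesian {F : 𝒳 ⥤ᵇ 𝒴} {x y : (FibCat.inertia F).obj} (φ : x ⟶ y) {R S : C} (f : R ⟶ S)
    (h : 𝒳.p.IsStronglyCartesian f φ.hom) : (FibCat.inertia F).p.IsStronglyCartesian f φ where
  toIsHomLift := (isHomLift_hom_iff _ _).1 inferInstance
  universal_property' {z} g ψ hψ := by
    have k₁ : 𝒳.p.IsHomLift (g ≫ f) ψ.hom := (isHomLift_hom_iff _ _).2 hψ
    obtain ⟨χ, ⟨a₁, b₁⟩, c₁⟩ := IsStronglyCartesian.universal_property 𝒳.p f φ.hom g _ rfl ψ.hom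
    have hR : 𝒳.p.obj x.pt = R := IsHomLift.domain_eq 𝒳.p f φ.hom
    have hz : 𝒳.p.IsHomLift (𝟙 (𝒳.p.obj z.pt)) z.aut.hom := isHomLift_aut z
    have hx : 𝒳.p.IsHomLift (𝟙 R) x.aut.hom := by rw [← hR]; exact isHomLift_aut x
    have hcomm : z.aut.hom ≫ χ = χ ≫ x.aut.hom := by
      change 𝒳.p.obj z.pt ⟶ R at g
      have m₁ : 𝒳.p.IsHomLift g (z.aut.hom ≫ χ) := IsHomLift.comp_lift_id_left 𝒳.p _ _ _
      have m₂ : 𝒳.p.IsHomLift g (χ ≫ x.aut.hom) := inferInstance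
      apply IsStronglyCartesian.ext 𝒳.p f φ.hom g
      rw [Category.assoc, b₁, Category.assoc, φ.comm, ← Category.assoc, b₁, ψ.comm]
    refine ⟨⟨χ, hcomm⟩, ⟨(isHomLift_hom_iff _ _).1 a₁, FibCat.InertiaObj.hom_ext b₁⟩, ?_⟩
    rintro τ ⟨d₁, d₂⟩
    exact FibCat.InertiaObj.hom_ext (c₁ _ ⟨(isHomLift_hom_iff _ _).2 d₁, by rw [← FibCat.InertiaObj.comp_hom, d₂]⟩)

/-- lifting along a strongly cartesian morphism with cartesian image -/
theorem exists_lift {F : 𝒳 ⥤ᵇ 𝒴} (x : (FibCat.inertia F).obj) {R S : C} (f : R ⟶ S) {a : 𝒳.obj}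
    (φ : a ⟶ x.pt) (h : 𝒳.p.IsStronglyCartesian f φ) (h' : 𝒴.p.IsCartesian f (F.map φ)) :
    ∃ (y : (FibCat.inertia F).obj) (ψ : y ⟶ x), (FibCat.inertia F).p.IsStronglyCartesian f ψ := by
  have hR : 𝒳.p.obj a = R := IsHomLift.domain_eq 𝒳.p f φ
  have hS : 𝒳.p.obj x.pt = S := IsHomLift.codomain_eq 𝒳.p f φ
  have hx : 𝒳.p.IsHomLift (𝟙 S) x.aut.hom := by rw [← hS]; exact isHomLift_aut x
  have hx' : 𝒳.p.IsHomLift (𝟙 S) x.aut.inv := IsHomLift.lift_id_inv _ _ _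
  let α : a ⟶ a := IsCartesian.map 𝒳.p f φ (φ ≫ x.aut.hom)
  let β : a ⟶ a := IsCartesian.map 𝒳.p f φ (φ ≫ x.aut.inv)
  have hα : α ≫ φ = φ ≫ x.aut.hom := IsCartesian.fac _ _ _ _
  have hβ : β ≫ φ = φ ≫ x.aut.inv := IsCartesian.fac _ _ _ _
  have lα : 𝒳.p.IsHomLift (𝟙 R) α := inferInstance
  have lβ : 𝒳.p.IsHomLift (𝟙 R) β := inferInstance
  have l1 : 𝒳.p.IsHomLift (𝟙 R) (𝟙 a) := IsHomLift.id hR
  have e₁ : α ≫ β = 𝟙 a := by
    apply IsCartesian.ext 𝒳.p f φ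
    rw [Category.assoc, hβ, ← Category.assoc, hα, Category.assoc, Iso.hom_inv_id, Category.comp_id, Category.id_comp]
  have e₂ : β ≫ α = 𝟙 a := by
    apply IsCartesian.ext 𝒳.p f φ
    rw [Category.assoc, hα, ← Category.assoc, hβ, Category.assoc, Iso.inv_hom_id, Category.comp_id, Category.id_comp]
  have e₃ : F.map α = 𝟙 (F.obj a) := by
    have m₁ : 𝒴.p.IsHomLift (𝟙 R) (F.map α) := BasedFunctor.preserves_isHomLift F _ _
    have m₂ : 𝒴.p.IsHomLift (𝟙 R) (𝟙 (F.obj a)) := IsHomLift.id ((F.w_obj a).trans hR)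
    apply IsCartesian.ext 𝒴.p f (F.map φ)
    rw [← Functor.map_comp, hα, Functor.map_comp, x.map_aut, Category.comp_id, Category.id_comp]
  exact ⟨⟨a, ⟨α, β, e₁, e₂⟩, e₃⟩, ⟨φ, hα⟩, isStronglyCartesian _ f h⟩

theorem isFibered [𝒳.p.IsFibered] (F : 𝒳 ⥤ᵇ 𝒴) (hF : FibCat.PreservesStronglyCartesian F) :
    (FibCat.inertia F).p.IsFibered := by
  refine IsFibered.of_exists_isStronglyCartesian (fun x R f => ?_)
  change R ⟶ 𝒳.p.obj x.pt at f
  obtain ⟨a, φ, h⟩ := Cart.exists_isStronglyCartesian (p := 𝒳.p) f (x := x.pt) rfl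
  have := hF f φ h
  exact exists_lift x f φ h inferInstance

theorem isFibGrpd (F : 𝒳 ⥤ᵇ 𝒴) (h𝒳 : FibCat.IsFibGrpd 𝒳.p) (hF : FibCat.PreservesStronglyCartesian F) :
    FibCat.IsFibGrpd (FibCat.inertia F).p where
  exists_lift {x R} f := by
    have := Cart.IsFibGrpd.isFibered _ h𝒳
    change R ⟶ 𝒳.p.obj x.pt at f
    obtain ⟨a, φ, h⟩ := Cart.exists_isStronglyCartesian (p := 𝒳.p) f (x := x.pt) rfl
    have := hF f φ h
    obtain ⟨y, ψ, h⟩ := exists_lift x f φ h inferInstance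
    exact ⟨y, ψ, inferInstance⟩
  isStronglyCartesian {y x} φ :=
    isStronglyCartesian φ _ (Cart.IsFibGrpd.isStronglyCartesian_of_isHomLift h𝒳 _ _
      (hf := (isHomLift_hom_iff _ _).2 inferInstance))

theorem preservesStronglyCartesian_toSelf : FibCat.PreservesStronglyCartesian (FibCat.toSelf 𝒳) := by
  intro R S f a b φ h
  have l₃ : (FibCat.selfOver C).p.IsHomLift f ((FibCat.toSelf 𝒳).map φ) := BasedFunctor.preserves_isHomLift _ _ _
  exact Fp.isStronglyCartesian_self l₃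

theorem isFibSetoid (h𝒳 : FibCat.IsFibGrpd 𝒳.p)
    (h : FibCat.IsEquivOver (FibCat.inertiaToBase (FibCat.toSelf 𝒳))) : FibCat.IsFibSetoid 𝒳.p := by
  refine ⟨h𝒳, fun U a b => ⟨fun f g => ?_⟩⟩
  have h1 := Equiv.isEquivalence h
  have := Cart.IsFibGrpd.isGroupoid_fiber _ h𝒳 U
  have hf : IsIso f := IsGroupoid.all_isIso f
  have hg : IsIso g := IsGroupoid.all_isIso g
  let α : a ≅ a := asIso f ≪≫ (asIso g).symm
  let α' : a.1 ≅ a.1 := Fiber.fiberInclusion.mapIso α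
  have hα : 𝒳.p.IsHomLift (𝟙 (𝒳.p.obj a.1)) α'.hom := by
    rw [a.2]; exact α.hom.2
  have e0 : (FibCat.toSelf 𝒳).map α'.hom = 𝟙 ((FibCat.toSelf 𝒳).obj a.1) :=
    (IsHomLift.eq_of_isHomLift 𝒳.p (𝟙 (𝒳.p.obj a.1)) α'.hom).symm
  let x : (FibCat.inertia (FibCat.toSelf 𝒳)).obj := ⟨a.1, α', e0⟩
  let y : (FibCat.inertia (FibCat.toSelf 𝒳)).obj := (FibCat.inertiaNeutral (FibCat.toSelf 𝒳)).obj a.1
  obtain ⟨k, hk⟩ := (FibCat.inertiaToBase (FibCat.toSelf 𝒳)).toFunctor.map_surjective (X := x) (Y := y) (𝟙 a.1)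
  have hk' : k.hom = 𝟙 a.1 := hk
  have e1 : α'.hom ≫ k.hom = k.hom ≫ 𝟙 a.1 := k.comm
  rw [hk'] at e1
  have e2 : α.hom = 𝟙 a := Fiber.hom_ext ((Category.comp_id α'.hom).symm.trans (e1.trans (Category.comp_id (𝟙 a.1))))
  have e3 : f ≫ inv g = 𝟙 a := e2
  calc f = (f ≫ inv g) ≫ g := by rw [Category.assoc, IsIso.inv_hom_id, Category.comp_id]
    _ = g := by rw [e3, Category.id_comp]

section Diag

variable (F : 𝒳 ⥤ᵇ 𝒴)

/-- the morphism `(u, w)` of `𝒳 ×_𝒴 𝒳` between diagonal objects -/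
def diagHom {x y : 𝒳.obj} (u w : x ⟶ y) (h : F.map u = F.map w) :
    (FibCat.diag F).obj x ⟶ (FibCat.diag F).obj y :=
  Fp.mkHom (x := (FibCat.diag F).obj x) (y := (FibCat.diag F).obj y) u w (by
    change F.map u ≫ 𝟙 (F.obj y) = 𝟙 (F.obj x) ≫ F.map w
    rw [Category.comp_id, Category.id_comp, h])

theorem diagHom_comp {x y z : 𝒳.obj} (u w : x ⟶ y) (h : F.map u = F.map w) (u' w' : y ⟶ z) (h' : F.map u' = F.map w') :
    diagHom F u w h ≫ diagHom F u' w' h' = diagHom F (u ≫ u') (w ≫ w') (by rw [Functor.map_comp, Functor.map_comp, h, h']) :=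
  Fp.hom_ext' rfl rfl

theorem diagHom_congr {x y : 𝒳.obj} {u w u' w' : x ⟶ y} {h : F.map u = F.map w} {h' : F.map u' = F.map w'} (e : u = u') (e' : w = w') :
    diagHom F u w h = diagHom F u' w' h' := by subst e; subst e'; rfl

theorem diag_map {x y : 𝒳.obj} (u : x ⟶ y) : (FibCat.diag F).map u = diagHom F u u rfl := rfl

theorem diagHom_eq_iff {x y : 𝒳.obj} {u w u' w' : x ⟶ y} {h : F.map u = F.map w} {h' : F.map u' = F.map w'} :
    diagHom F u w h = diagHom F u' w' h' ↔ u = u' ∧ w = w' :=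
  ⟨fun e => ⟨congrArg (fun k => k.hom.fst) e, congrArg (fun k => k.hom.snd) e⟩, fun e => diagHom_congr F e.1 e.2⟩

theorem exists_diagHom {x y : 𝒳.obj} (θ : (FibCat.diag F).obj x ⟶ (FibCat.diag F).obj y) :
    ∃ (u w : x ⟶ y) (h : F.map u = F.map w), θ = diagHom F u w h := by
  refine ⟨θ.hom.fst, θ.hom.snd, ?_, Fp.hom_ext' rfl rfl⟩
  have h1 : F.map θ.hom.fst ≫ 𝟙 (F.obj y) = 𝟙 (F.obj x) ≫ F.map θ.hom.snd := θ.hom.w
  exact (Category.comp_id (F.map θ.hom.fst)).symm.trans (h1.trans (Category.id_comp _))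

/-- isomorphisms between diagonal objects -/
def diagIso {x y : 𝒳.obj} (u w : x ≅ y) (h : F.map u.hom = F.map w.hom) :
    (FibCat.diag F).obj x ≅ (FibCat.diag F).obj y where
  hom := diagHom F u.hom w.hom h
  inv := diagHom F u.inv w.inv (by
    have h1 : F.toFunctor.mapIso u = F.toFunctor.mapIso w := Iso.ext h
    exact congrArg Iso.inv h1)
  hom_inv_id := by rw [diagHom_comp]; exact diagHom_congr F (h' := rfl) u.hom_inv_id w.hom_inv_id
  inv_hom_id := by rw [diagHom_comp]; exact diagHom_congr F (h' := rfl) u.inv_hom_id w.inv_hom_id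

variable {F} in
theorem map_eq_of_eq_id {x : 𝒳.obj} {u : x ⟶ x} (h : F.map u = 𝟙 (F.obj x)) : F.map u = F.map (𝟙 x) :=
  h.trans (F.toFunctor.map_id x).symm

/-- the object `(x, x, (α, 𝟙))` -/
def toFpObj (x : (FibCat.inertia F).obj) : (FibCat.fp (FibCat.diag F) (FibCat.diag F)).obj :=
  Fp.mkObj (F := FibCat.diag F) (G := FibCat.diag F) x.pt x.pt
    (diagIso F x.aut (Iso.refl _) (map_eq_of_eq_id x.map_aut))
    ((Fp.isHomLift_fst_iff (F := F) (G := F) _ _).1 (isHomLift_aut x))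

/-- the comparison functor -/
def toFp : FibCat.inertia F ⥤ᵇ FibCat.fp (FibCat.diag F) (FibCat.diag F) where
  toFunctor :=
    { obj := toFpObj F
      map := fun {x y} φ => Fp.mkHom (F := FibCat.diag F) (G := FibCat.diag F)
        (x := toFpObj F x) (y := toFpObj F y) φ.hom φ.hom (by
          change diagHom F φ.hom φ.hom rfl ≫ diagHom F y.aut.hom (𝟙 _) (map_eq_of_eq_id y.map_aut) =
            diagHom F x.aut.hom (𝟙 _) (map_eq_of_eq_id x.map_aut) ≫ diagHom F φ.hom φ.hom rfl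
          rw [diagHom_comp, diagHom_comp]
          exact diagHom_congr F φ.comm.symm ((Category.comp_id _).trans (Category.id_comp _).symm))
      map_id := fun x => rfl
      map_comp := fun φ ψ => rfl }
  w := rfl

theorem faithful_toFp : (toFp F).toFunctor.Faithful where
  map_injective h := FibCat.InertiaObj.hom_ext (congrArg (fun k => k.hom.fst) h)

theorem full_toFp : (toFp F).toFunctor.Full where
  map_surjective {x y} θ := by
    let u : x.pt ⟶ y.pt := θ.hom.fst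
    let w : x.pt ⟶ y.pt := θ.hom.snd
    have h1 : diagHom F u u rfl ≫ diagHom F y.aut.hom (𝟙 _) (map_eq_of_eq_id y.map_aut) =
      diagHom F x.aut.hom (𝟙 _) (map_eq_of_eq_id x.map_aut) ≫ diagHom F w w rfl := θ.hom.w
    rw [diagHom_comp, diagHom_comp, diagHom_eq_iff] at h1
    have h2 : u = w := (Category.comp_id u).symm.trans (h1.2.trans (Category.id_comp w))
    have h3 : x.aut.hom ≫ u = u ≫ y.aut.hom := by rw [h1.1, h2]
    exact ⟨⟨u, h3⟩, Fp.hom_ext' rfl h2⟩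

theorem isEquivOver_toFp : FibCat.IsEquivOver (toFp F) := by
  have := faithful_toFp F
  have := full_toFp F
  refine Equiv.isEquivOver_of _ (fun η => ?_)
  let a : 𝒳.obj := η.obj.fst
  let b : 𝒳.obj := η.obj.snd
  have hη : (FibCat.fp F F).p.IsHomLift (𝟙 (𝒳.p.obj a)) η.obj.iso.hom := η.property
  obtain ⟨u, w, h, e⟩ := exists_diagHom F (x := a) (y := b) η.obj.iso.hom
  obtain ⟨u', w', h', e'⟩ := exists_diagHom F (x := b) (y := a) η.obj.iso.inv
  have k1 := η.obj.iso.hom_inv_id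
  have k2 := η.obj.iso.inv_hom_id
  rw [e, e', diagHom_comp] at k1
  rw [e', e, diagHom_comp] at k2
  have k1' := (diagHom_eq_iff F (u' := 𝟙 a) (w' := 𝟙 a) (h' := rfl)).1 k1
  have k2' := (diagHom_eq_iff F (u' := 𝟙 b) (w' := 𝟙 b) (h' := rfl)).1 k2
  let iu : a ≅ b := ⟨u, u', k1'.1, k2'.1⟩
  let iw : a ≅ b := ⟨w, w', k1'.2, k2'.2⟩
  have hα : F.map (iu ≪≫ iw.symm).hom = 𝟙 (F.obj a) := by
    change F.map (u ≫ w') = _
    rw [Functor.map_comp, h, ← Functor.map_comp, k1'.2, Functor.map_id]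
  let x : (FibCat.inertia F).obj := ⟨a, iu ≪≫ iw.symm, hα⟩
  have hid : 𝒳.p.IsHomLift (𝟙 (𝒳.p.obj a)) (𝟙 a) := IsHomLift.id rfl
  refine ⟨x, ⟨Fp.mkHom (F := FibCat.diag F) (G := FibCat.diag F) (x := toFpObj F x) (y := η) (𝟙 a) w ?_,
    Fp.mkHom (F := FibCat.diag F) (G := FibCat.diag F) (x := η) (y := toFpObj F x) (𝟙 a) w' ?_, ?_, ?_⟩, ?_⟩
  · change diagHom F (𝟙 a) (𝟙 a) rfl ≫ η.obj.iso.hom = diagHom F (u ≫ w') (𝟙 a) (map_eq_of_eq_id hα) ≫ diagHom F w w rfl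
    rw [e, diagHom_comp, diagHom_comp]
    refine diagHom_congr F ?_ ?_
    · rw [Category.id_comp, Category.assoc, k2'.2, Category.comp_id]
    · rfl
  · change diagHom F (𝟙 a) (𝟙 a) rfl ≫ diagHom F (u ≫ w') (𝟙 a) (map_eq_of_eq_id hα) = η.obj.iso.hom ≫ diagHom F w' w' rfl
    rw [e, diagHom_comp, diagHom_comp]
    refine diagHom_congr F ?_ ?_
    · rw [Category.id_comp]
    · rw [Category.id_comp, k1'.2]
  · exact Fp.hom_ext' (Category.comp_id _) k1'.2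
  · exact Fp.hom_ext' (Category.comp_id _) k2'.2
  · exact (Fp.isHomLift_fst_iff (F := FibCat.diag F) (G := FibCat.diag F) _ _).1 hid

end Diag

end K159.Inertia
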