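import Groth.Agent.FibCat.K159.Cart
import Mathlib.CategoryTheory.FiberedCategory.Cocartesian
import Mathlib.CategoryTheory.Opposites

/-!
Cocartesian morphisms as cartesian morphisms of the opposite functor; a functor that is pre-fibred and
co-pre-fibred is fibred iff it is co-fibred.
-/

set_option autoImplicit false
set_option backward.isDefEq.respectTransparency false
set_option backward.isDefEq.respectTransparency.types false

universe v₂ u₂ v u

open CategoryTheory CategoryTheory.Functor Opposite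

namespace K159.Opp

variable {C : Type u} [Category.{v} C] {X : Type u₂} [Category.{v₂} X] {p : X ⥤ C}

theorem isHomLift_op_iff {R S : C} (f : R ⟶ S) {a b : X} (φ : a ⟶ b) :
    p.op.IsHomLift f.op φ.op ↔ p.IsHomLift f φ := by
  constructor
  · intro h
    have h1 : p.obj b = S := op_injective (IsHomLift.domain_eq p.op f.op φ.op)
    have h2 : p.obj a = R := op_injective (IsHomLift.codomain_eq p.op f.op φ.op)
    subst h1
    subst h2
    have h3 : f.op = (p.map φ).op := IsHomLift.eq_of_isHomLift p.op f.op φ.op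
    obtain rfl : f = p.map φ := Quiver.Hom.op_inj h3
    infer_instance
  · intro h
    cases h
    exact IsHomLift.map p.op φ.op

theorem isCocartesian_of_op {R S : C} (f : R ⟶ S) {a b : X} (φ : a ⟶ b)
    (h : p.op.IsCartesian f.op φ.op) : p.IsCocartesian f φ where
  toIsHomLift := (isHomLift_op_iff f φ).1 inferInstance
  universal_property {b'} ψ hψ := by
    have h1 := (isHomLift_op_iff f ψ).2 hψ
    obtain ⟨χ, ⟨c₁, c₂⟩, c₃⟩ := h.universal_property ψ.op
    refine ⟨χ.unop, ⟨(isHomLift_op_iff _ _).1 c₁, Quiver.Hom.op_inj c₂⟩, ?_⟩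
    rintro τ ⟨t₁, t₂⟩
    exact Quiver.Hom.op_inj (c₃ τ.op ⟨(isHomLift_op_iff _ _).2 t₁, Quiver.Hom.unop_inj t₂⟩)

theorem isStronglyCocartesian_of_op {R S : C} (f : R ⟶ S) {a b : X} (φ : a ⟶ b)
    (h : p.op.IsStronglyCartesian f.op φ.op) : p.IsStronglyCocartesian f φ where
  toIsHomLift := (isHomLift_op_iff f φ).1 inferInstance
  universal_property' {b'} g ψ hψ := by
    have h1 := (isHomLift_op_iff (f ≫ g) ψ).2 hψ
    obtain ⟨χ, ⟨c₁, c₂⟩, c₃⟩ := IsStronglyCartesian.universal_property p.op f.op φ.op g.op (f ≫ g).op rfl ψ.op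
    refine ⟨χ.unop, ⟨(isHomLift_op_iff _ _).1 c₁, Quiver.Hom.op_inj c₂⟩, ?_⟩
    rintro τ ⟨t₁, t₂⟩
    exact Quiver.Hom.op_inj (c₃ τ.op ⟨(isHomLift_op_iff _ _).2 t₁, Quiver.Hom.unop_inj t₂⟩)

theorem op_of_isStronglyCocartesian {R S : C} (f : R ⟶ S) {a b : X} (φ : a ⟶ b)
    (h : p.IsStronglyCocartesian f φ) : p.op.IsStronglyCartesian f.op φ.op where
  toIsHomLift := (isHomLift_op_iff f φ).2 inferInstance
  universal_property' {b'} g ψ hψ := by
    have h1 : p.IsHomLift (f ≫ g.unop) ψ.unop := (isHomLift_op_iff (f ≫ g.unop) ψ.unop).1 hψ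
    obtain ⟨χ, ⟨c₁, c₂⟩, c₃⟩ := IsStronglyCocartesian.universal_property p f φ g.unop (f ≫ g.unop) rfl ψ.unop
    refine ⟨χ.op, ⟨(isHomLift_op_iff _ _).2 c₁, Quiver.Hom.unop_inj c₂⟩, ?_⟩
    rintro τ ⟨t₁, t₂⟩
    exact Quiver.Hom.unop_inj (c₃ τ.unop ⟨(isHomLift_op_iff _ _).1 t₁, Quiver.Hom.op_inj t₂⟩)

/-- in a fibred category, cocartesian morphisms are strongly cocartesian -/
theorem isStronglyCocartesian_of_isCocartesian [p.IsFibered] {R S : C} (f : R ⟶ S) {a b : X} (φ : a ⟶ b)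
    (h : p.IsCocartesian f φ) : p.IsStronglyCocartesian f φ where
  universal_property' {c} g ψ hψ := by
    obtain ⟨c', θ, hθ⟩ := Cart.exists_isStronglyCartesian (p := p) g (x := c) rfl
    let ψ' := IsStronglyCartesian.map p g θ (g := f) rfl ψ
    have e₁ : ψ' ≫ θ = ψ := IsStronglyCartesian.fac _ _ _ _ _
    let χ := IsCocartesian.map p f φ ψ'
    have e₂ : φ ≫ χ = ψ' := IsCocartesian.fac _ _ _ _
    refine ⟨χ ≫ θ, ⟨inferInstance, by rw [← Category.assoc, e₂, e₁]⟩, ?_⟩
    rintro τ ⟨t₁, t₂⟩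
    let τ' := IsStronglyCartesian.map p g θ (g := 𝟙 S) (Category.id_comp g).symm τ
    have e₃ : τ' ≫ θ = τ := IsStronglyCartesian.fac _ _ _ _ _
    have e₄ : φ ≫ τ' = ψ' := by
      have : p.IsHomLift f (φ ≫ τ') := inferInstance
      exact IsStronglyCartesian.map_uniq p g θ rfl ψ (φ ≫ τ') (by rw [Category.assoc, e₃, t₂])
    have e₅ : τ' = χ := IsCocartesian.map_uniq p f φ ψ' τ' e₄
    rw [← e₃, e₅]

/-- in a co-fibred category, cartesian morphisms are strongly cartesian -/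
theorem isStronglyCartesian_of_isCartesian_of_op [p.op.IsFibered] {R S : C} (f : R ⟶ S) {a b : X} (φ : a ⟶ b)
    (h : p.IsCartesian f φ) : p.IsStronglyCartesian f φ where
  universal_property' {c} g ψ hψ := by
    obtain ⟨c', θ, hθ⟩ := Cart.exists_isStronglyCartesian (p := p.op) g.op (x := op c) rfl
    obtain ⟨c', rfl⟩ : ∃ c'', op c'' = c' := ⟨c'.unop, rfl⟩
    obtain ⟨θ, rfl⟩ : ∃ θ', Quiver.Hom.op θ' = θ := ⟨θ.unop, rfl⟩
    have hθ' : p.IsStronglyCocartesian g θ := isStronglyCocartesian_of_op g θ hθ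
    let ψ' := IsStronglyCocartesian.map p g θ (g := f) rfl ψ
    have e₁ : θ ≫ ψ' = ψ := IsStronglyCocartesian.fac _ _ _ _ _
    let χ := IsCartesian.map p f φ ψ'
    have e₂ : χ ≫ φ = ψ' := IsCartesian.fac _ _ _ _
    refine ⟨θ ≫ χ, ⟨inferInstance, by rw [Category.assoc, e₂, e₁]⟩, ?_⟩
    rintro τ ⟨t₁, t₂⟩
    let τ' := IsStronglyCocartesian.map p g θ (g := 𝟙 R) (Category.comp_id g).symm τ
    have e₃ : θ ≫ τ' = τ := IsStronglyCocartesian.fac _ _ _ _ _
    have e₄ : τ' ≫ φ = ψ' := by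
      have : p.IsHomLift f (τ' ≫ φ) := inferInstance
      exact IsStronglyCocartesian.map_uniq p g θ rfl ψ (τ' ≫ φ) (by rw [← Category.assoc, e₃, t₂])
    have e₅ : τ' = χ := IsCartesian.map_uniq p f φ ψ' τ' e₄
    rw [← e₃, e₅]

theorem isFibered_iff_op [p.IsPreFibered] [p.op.IsPreFibered] : p.IsFibered ↔ p.op.IsFibered := by
  constructor
  · intro _
    refine IsFibered.of_exists_isStronglyCartesian (fun a R f => ?_)
    obtain ⟨b, φ, hφ⟩ := IsPreFibered.exists_isCartesian p.op rfl f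
    exact ⟨b, φ, op_of_isStronglyCocartesian f.unop φ.unop
      (isStronglyCocartesian_of_isCocartesian _ _ (isCocartesian_of_op f.unop φ.unop hφ))⟩
  · intro _
    refine IsFibered.of_exists_isStronglyCartesian (fun a R f => ?_)
    obtain ⟨b, φ, hφ⟩ := IsPreFibered.exists_isCartesian p rfl f
    exact ⟨b, φ, isStronglyCartesian_of_isCartesian_of_op f φ hφ⟩

end K159.Opp
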